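import Cfsg.Agent.HY.Def

/-! # `C(z) = O(C(z)) N(Q)` -/

set_option autoImplicit false
set_option linter.unusedVariables false
set_option linter.unusedSectionVars false
set_option synthInstance.maxSize 2000

namespace Cfsg.Agent.HY
open Cfsg Cfsg.Agent.BG Subgroup PHom
open Cfsg.Agent.Comp (QS CompIn)
open Cfsg.Agent.S3F (p2 SCl)
open Cfsg.Agent.GF (Lx Pr Cp Tr bar ih_all)

universe u

variable {G : Type u} [Group G] [Finite G] {ι : Sh →* G} {H K M R X Y : Subgroup G} {A B : Subgroup Sh} {x y : Sh}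
  {a b g w : G}

namespace Cz
variable {G' : Type*} [Group G'] {φ : PHom G G'}

def push (φ : PHom G G') (ι : Sh →* G) (d : ι.range ≤ φ.dom) : Sh →* G' :=
  φ.hom.comp (ι.codRestrict φ.dom fun x => d (mem_rg x))

theorem push_app (d : ι.range ≤ φ.dom) (x : Sh) : push φ ι d x = φ.app (ι x) := (app_eq (d (mem_rg x))).symm

theorem push_map (d : ι.range ≤ φ.dom) (A : Subgroup Sh) : A.map (push φ ι d) = φ.im (A.map ι) := by
  ext y
  rw [PHom.mem_im' ((map_le A).trans d)]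
  exact ⟨fun ⟨x, a, b⟩ => ⟨ι x, mem_im a, (push_app d x).symm.trans b⟩,
    fun ⟨_, ⟨x, a, rfl⟩, b⟩ => ⟨x, a, (push_app d x).trans b⟩⟩

def s4 : Sh := a0 * t0
def P2 (y : Sh) : Prop := y ∈ Z0 ∨ y * y = z0
instance : DecidablePred P2 := fun _ => inferInstanceAs (Decidable (_ ∨ _))
theorem l0 : ∀ c ∈ Q0, ∀ a ∈ Q0, c * a = a * c ∨ c * a = a * c * z0 := by decide +kernel
theorem d4 : ∀ y ∈ Q0, y * y ∈ Z0 ∧ ∀ x ∈ Q0, x * y * x⁻¹ * y⁻¹ ∈ Z0 := fun y i =>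
  ⟨(by decide +kernel : ∀ y ∈ Q0, y * y ∈ Z0) y i, fun x j => (mem_Z0 _).2 ((l0 x j y i).imp
    (fun e => by rw [e]; group) fun e => by rw [e, z0_cen, mul_assoc z0, mul_assoc z0]; group)⟩
theorem l3 : ∀ a ∈ Q0, a * a = z0 → s4 * a * s4⁻¹ * a = a * (s4 * a * s4⁻¹) → ∀ b ∈ Q0, b * b = z0 →
    a * b * (a * b) = z0 → s4 * a * s4⁻¹ * b = b * (s4 * a * s4⁻¹) → s4 * b * s4⁻¹ * a = a * (s4 * b * s4⁻¹) →
      s4 * b * s4⁻¹ * b ≠ b * (s4 * b * s4⁻¹) := by decide +kernel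
theorem l4 : ∀ a ∈ Q0, a * a = 1 → (∀ e ∈ Q0, e * a = a * e) → a ∈ Z0 := by decide +kernel
theorem l5 : ∀ a ∈ Q0, a * a = z0 → P2 (a * (s4 * a * s4⁻¹)) → ∀ b ∈ Q0, b * b = z0 → a * b * (a * b) = z0 →
    P2 (b * (s4 * a * s4⁻¹)) → P2 (a * b * (s4 * a * s4⁻¹)) → P2 (a * (s4 * b * s4⁻¹)) → P2 (b * (s4 * b * s4⁻¹)) →
    ¬ P2 (a * b * (s4 * b * s4⁻¹)) := by decide +kernel
theorem l6 : ∀ a ∈ Q0, a * a = z0 → (∀ q ∈ Q0, q * s4 * q⁻¹ * s4⁻¹ * a = a * (q * s4 * q⁻¹ * s4⁻¹)) →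
    ∀ b ∈ Q0, b * b = z0 → (∀ q ∈ Q0, q * s4 * q⁻¹ * s4⁻¹ * b = b * (q * s4 * q⁻¹ * s4⁻¹)) →
    a * b * (a * b) ≠ z0 := by decide +kernel
theorem zz : ∀ x ∈ Z0, x * x = 1 := by decide +kernel
theorem Z_Q : Z0 ≤ Q0 := Z_I.trans I_Q
theorem zcm (h : x ∈ Z0) (y : Sh) : y * x = x * y := by
  rcases (mem_Z0 x).1 h with rfl | rfl
  exacts [by simp, z0_cen y]
theorem l1 (a : Sh) (e : a * a = 1) (t : Sh) (i : t ∈ Z0 ∨ t * t = 1) (j : a * t ∈ Z0 ∨ a * t * (a * t) = 1) :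
    t * a = a * t := by
  rcases i with i | i
  · exact (zcm i a).symm
  rcases j with j | j
  · exact mul_left_cancel ((mul_assoc ..).symm.trans (zcm j a).symm)
  · rw [← inv_eq_of_mul_eq_one_left j, mul_inv_rev, inv_eq_of_mul_eq_one_left e, inv_eq_of_mul_eq_one_left i]
theorem l2 : ∀ c ∈ Q0, ∀ a ∈ Q0, c * a ≠ a * c → ∀ b ∈ Q0, c * b ≠ b * c → c * (a * b) = a * b * c :=
  fun c i a j n b k m => by
    rw [← mul_assoc, (l0 c i a j).resolve_left n, mul_assoc _ z0, ← z0_cen, ← mul_assoc, mul_assoc a,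
      (l0 c i b k).resolve_left m, ← mul_assoc, ← mul_assoc, mul_assoc _ z0, show z0 * z0 = 1 by decide +kernel, mul_one]

theorem cz (c : g ∈ C1[ι z0]) (e : x ∈ Z0) : g * ι x * g⁻¹ = ι x := by
  rcases (mem_Z0 x).1 e with rfl | rfl
  · simp
  · rw [mem_C1.1 c, mul_inv_cancel_right]

theorem Ohat (hR : PiG {2} R) (h1 : H ≤ C[R]) (l : R ≤ H) : (quo R).pre O[{2}ᶜ](H ÷ R) ≤ O[{2}ᶜ](H) ⊔ R := by
  have n := cents_norm h1
  have e : (quo R).pre O[{2}ᶜ](H ÷ R) ≤ H := pre_le_of_le_im n ((quo_ker R).le.trans l) (O_le _ _)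
  have s : Syl 2 R ((quo R).pre O[{2}ᶜ](H ÷ R)) :=
    ⟨le_pre_quo _ _, hR, by rw [← card_quo (e.trans n), quo_pre]; exact O_pig _ _⟩
  exact ((burnside p2 s (inf_le_left.trans (e.trans h1))).sdprod s).sup.ge.trans
    (sup_le_sup_right (O_le_of_normal _ e (norm_pre n (O_norm _ _))) _)
end Cz
open Cz

theorem Pat.normQ (h : Pat ι) : C1[ι z0] ≤ O[{2}ᶜ](C1[ι z0]) ⊔ C1[ι z0] ⊓ N[Q0.map ι] := by
  have hQ : ∀ x y, y ∈ Q0 → Cj C1[ι z0] (ι y) (ι x) → x ∈ Q0 := fun x y a e => h.sc y a x e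
  replace h := h.toTM
  have c : C1[ι z0] ≤ C1[ι z0] := le_rfl
  have hle : ι.range ≤ C1[ι z0] := rg_cen
  revert hQ c hle
  generalize hH : C1[ι z0] = H
  intro hQ c' hle
  have c : H ≤ C1[ι z0] := hH.ge
  have hm : ∀ x, ι x ∈ H := fun x => hle (mem_rg x)
  have hmle : ∀ A : Subgroup Sh, A.map ι ≤ H := fun A => (map_le A).trans hle
  have cZ : H ≤ C[Z0.map ι] := by rwa [map_Z, C_zpowers]
  have d : H ≤ (quo (Z0.map ι)).dom := cents_norm cZ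
  have ZQ : Z0.map ι ≤ Q0.map ι := map_mono Z_Q
  have kr := quo_ker (Z0.map ι)
  have hO := Ohat (map_pig Z0) cZ (hmle _)
  generalize hφ : quo (Z0.map ι) = φ at d kr hO
  obtain ⟨j, ja, jm⟩ : ∃ j : Sh →* Quo (Z0.map ι), (∀ x, j x = φ.app (ι x)) ∧
      (∀ A : Subgroup Sh, A.map j = φ.im (A.map ι)) :=
    ⟨_, push_app (hle.trans d), push_map _⟩
  have j1 : ∀ x, j x = 1 ↔ x ∈ Z0 := fun x => by
    rw [← h.mem_iff, ← SetLike.ext_iff.1 kr, PHom.mem_ker, ja, and_iff_right (d (hm x))]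
  have jH : ∀ x, j x ∈ φ.im H := fun x => ja x ▸ app_mem_im (hm x) (d (hm x))
  have lx : Lx (#(φ.im H) + 1) (Q0.map j) (φ.im H) := ⟨ih_all _, Nat.lt_succ_self _, ⟨le_C_iff.2 (by
      rintro _ ⟨x, a, rfl⟩ _ ⟨y, b, rfl⟩
      have := (j1 _).2 ((d4 y b).2 x a)
      rwa [map_mul, map_mul, map_mul, map_inv, map_inv, mul_inv_eq_one, mul_inv_eq_iff_eq_mul] at this), by
      rintro _ ⟨x, a, rfl⟩
      rw [pow_two, ← map_mul, j1]; exact (d4 x a).1⟩, jm _ ▸ im_mono (hmle _),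
    jm _ ▸ (GF.scl_syl (h.sub hle) (by
      rintro _ ⟨y, a, rfl⟩ g b ⟨x, e⟩
      exact e ▸ mem_im (hQ _ _ a ⟨g, b, e.symm⟩))).im d (hmle _) (map_pig _)⟩
  have ZM : Z0.map ι ≤ O[{2}ᶜ](H) ⊔ H ⊓ N[Q0.map ι] :=
    (le_inf (hmle _) (ZQ.trans (normG _))).trans le_sup_right
  have MH : O[{2}ᶜ](H) ⊔ H ⊓ N[Q0.map ι] ≤ H := sup_le (O_le _ _) inf_le_left
  refine le_of_im_le d (MH.trans d) (kr.le.trans ZM) (lx.gen ?_ ?_ fun L hL n => ?_)
  · exact (im_pre (O_le _ _)).ge.trans (im_mono (hO.trans (sup_le le_sup_left ZM)))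
  · rw [jm, ← im_IN d ((hmle _).trans d) (kr.le.trans ZQ)]; exact im_mono le_sup_right
  exfalso
  obtain ⟨B, D, X, p⟩ := lx.pr hL n
  have mQ : ∀ x, j x ∈ Q0.map j → x ∈ Q0 := by
    rintro x ⟨y, a, e⟩
    exact (mul_mem_cancel_left (inv_mem a)).1 (Z_Q ((j1 _).1 (by rw [map_mul, map_inv, e, inv_mul_cancel])))
  have lift : ∀ g ∈ H, ∀ a b, φ.app g * j a * (φ.app g)⁻¹ = j b → ∃ w ∈ Z0, g * ι a * g⁻¹ = ι (b * w) := fun g i a b e => by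
    have k := mul_mem (mul_mem i (hm a)) (inv_mem i)
    rw [ja, ja, ← app_conj (d i) (d (hm a)), eq_comm, app_eq_iff (d (hm b)) (d k), kr] at e
    obtain ⟨w, w1, w2⟩ := e
    exact ⟨w, w1, by rw [map_mul, w2, mul_inv_cancel_left]⟩
  have F1 : ∀ a, j a ∈ D → a ∉ Z0 → ∀ b, j b ∈ D → b ∉ Z0 →
      a * a = b * b ∧ ∀ s, j s ∈ B → s * a = a * s → s * b = b * s := fun a a1 a2 b b1 b2 => by
    obtain ⟨g, g1, e⟩ := p.tr _ a1 (mt (j1 _).1 a2) _ b1 (mt (j1 _).1 b2)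
    obtain ⟨g, i, rfl⟩ := (mem_im' d).1 (hL.le (p.XL g1))
    obtain ⟨w, w1, w2⟩ := lift g i a b e
    refine ⟨h.inj ?_, fun s s1 k => ?_⟩
    · rw [← Cz.cz (c i) (d4 a (mQ a (p.DA a1))).1, map_mul, ← conj_mul, w2, ← map_mul, mul_assoc, ← mul_assoc w,
        ← zcm w1, mul_assoc b w, zz w w1, mul_one]
    · obtain ⟨v, v1, v2⟩ := lift g i s s (by rw [← mem_C.1 (p.XC g1) _ s1, mul_inv_cancel_right])
      have : s * v * (b * w) = b * w * (s * v) := h.inj (by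
        rw [map_mul, map_mul ι (b * w), ← v2, ← w2, conj_mul, conj_mul, ← map_mul, ← map_mul, k])
      rw [(show Commute v b from (zcm v1 b).symm).mul_mul_mul_comm,
        (show Commute w s from (zcm w1 s).symm).mul_mul_mul_comm, zcm w1 v] at this
      exact mul_right_cancel this
  obtain ⟨a, a1, a2, b, b1, b2, ab⟩ : ∃ a, j a ∈ D ∧ a ∉ Z0 ∧ ∃ b, j b ∈ D ∧ b ∉ Z0 ∧ a * b ∉ Z0 := by
    obtain ⟨y, y1, y2⟩ := exists_mem_ne_one p.Dne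
    obtain ⟨a, -, rfl⟩ := p.DA y1
    refine ⟨a, y1, mt (j1 _).2 y2, ?_⟩
    by_contra! k
    have : (D : Set (Quo (Z0.map ι))) ⊆ {1, (j a)⁻¹} := fun y hy => by
      obtain ⟨b, -, rfl⟩ := p.DA hy
      refine or_iff_not_imp_left.2 fun e => eq_inv_of_mul_eq_one_right ?_
      rw [← map_mul, j1]; exact k b hy (mt (j1 _).2 e)
    have k := (Set.ncard_le_ncard this).trans (Set.ncard_insert_le _ _)
    have f := p.four
    rw [Set.ncard_singleton] at k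
    change _ ≤ (D : Set (Quo (Z0.map ι))).ncard at f
    omega
  have ab1 : j (a * b) ∈ D := map_mul j a b ▸ mul_mem a1 b1
  have aQ := mQ a (p.DA a1)
  have bQ := mQ b (p.DA b1)
  have cB : ∀ s, j s ∈ B → s * a = a * s := fun s i => by_contra fun k =>
    k ((F1 _ ab1 ab a a1 a2).2 s i (l2 s (mQ s (p.BA i)) a aQ k b bQ fun l => k ((F1 b b1 b2 a a1 a2).2 s i l)))
  have cB' : ∀ s, j s ∈ B → s * b = b * s := fun s i => (F1 a a1 a2 b b1 b2).2 s i (cB s i)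
  have sq : ∀ s, j s ∈ D → s ∈ Z0 ∨ s * s = a * a := fun s i => or_iff_not_imp_left.2 fun k => (F1 s i k a a1 a2).1
  have aa : a * a = z0 := ((mem_Z0 _).1 (d4 a aQ).1).resolve_left fun e => a2 (l4 a aQ e fun q i => by
    have dp := p.dp lx.ab.1
    obtain ⟨u, u1, v, v1, o⟩ := (mem_sup_l (cents_norm dp.cent)).1 (dp.sup.ge (mem_im (ι := j) i))
    obtain ⟨s, -, rfl⟩ := p.BA u1
    have t : j (s⁻¹ * q) ∈ D := by rw [map_mul, map_inv, o, inv_mul_cancel_left]; exact v1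
    have := l1 a e _ (e ▸ sq _ t) (e ▸ sq _ (map_mul j a _ ▸ mul_mem a1 t))
    rw [← mul_inv_cancel_left s q, mul_assoc, this, ← mul_assoc, cB s u1, mul_assoc])
  rw [aa] at sq
  have bb := (sq b b1).resolve_left b2
  have ab2 := (sq _ ab1).resolve_left ab
  have nA : ∀ s, j s ∈ N[Q0.map j] := fun s => rg_norm n_Q (mem_rg s)
  have nL : j s4 ∉ N[L] := fun i => by
    rcases p.sh with k | ⟨-, k⟩
    · have o : ∀ x, j x ∈ D → ∀ y, j y ∈ D → P2 (x * (s4 * y * s4⁻¹)) := fun x q y l => sq _ (by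
        rw [map_mul, map_mul, map_mul, map_inv]
        exact mul_mem q (conj_mem (k ⟨⟨jH s4, i⟩, nA s4⟩) l))
      exact l5 a aQ aa (o a a1 a a1) b bQ bb ab2 (o b b1 a a1) (o _ ab1 a a1) (o a a1 b b1) (o b b1 b b1) (o _ ab1 b b1)
    · have o : ∀ q ∈ Q0, j (q * s4 * q⁻¹ * s4⁻¹) ∈ B := fun q m => by
        rw [map_mul, map_mul, map_mul, map_inv, map_inv]
        exact k _ ⟨⟨jH s4, i⟩, nA s4⟩ ((rg_pig j).elt ⟨s4, rfl⟩) (comm_mem (mem_map_of_mem j m) (mem_zpowers _))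
      exact l6 a aQ aa (fun q m => cB _ (o q m)) b bQ bb (fun q m => cB' _ (o q m)) ab2
  have o : ∀ y, j y ∈ D → j (s4 * y * s4⁻¹) ∈ B := fun y i => by
    have m := hL.cj (j s4)
    rw [cj_of_mem (jH s4)] at m
    rw [map_mul, map_mul, map_inv]
    exact p.orth m (fun e => nL (mem_N_iff_cj.2 e.symm))
      ⟨conj_mem (nA s4) (p.DA i), mem_cj_conj.2 (p.DL (lx.nA hL) i)⟩
  exact l3 a aQ aa (cB _ (o a a1)) b bQ bb ab2 (cB' _ (o a a1)) (cB _ (o b b1)) (cB' _ (o b b1))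

end Cfsg.Agent.HY
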