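import Cfsg.Agent.HY.Sm

/-! # Groups with a Sylow `2`-subgroup of type `HS`: definitions

`TM ι`: the injective `ι : Sh →* G` has a Sylow `2`-subgroup of `G` as its range; `Pat ι`: the fusion of involutions.
Files: `Mod` (the model), `Fus` (`Pat`), `Cz` (`C(z) = O N(Q)`), `Sig` (`O(C(z)) = 1`), `Hz` (local subgroups),
`Typ` (the three extra generators), `Rel` (the relations), `Main`. -/

set_option autoImplicit false
set_option linter.unusedVariables false
set_option linter.unusedSectionVars false

namespace Cfsg.Agent.HY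
open Cfsg Cfsg.Agent.BG Subgroup PHom
open Cfsg.Agent.S3F (p2)

universe u

variable {G : Type u} [Group G] [Finite G] {ι : Sh →* G} {H K X Y : Subgroup G} {A B : Subgroup Sh} {x y : Sh}
  {a b g w : G}

structure TM (ι : Sh →* G) : Prop where
  inj : Function.Injective ι
  syl : Syl 2 ι.range ⊤

/-- `x` and `y` are conjugate in `H` -/
def Cj (H : Subgroup G) (x y : G) : Prop := ∃ g ∈ H, g * x * g⁻¹ = y

/-- the fusion pattern of `HS` -/
structure Pat (ι : Sh →* G) : Prop extends TM ι where
  fz : ∀ x, zc x → Cj ⊤ (ι x) (ι z0)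
  fx : ∀ x, xc x → Cj ⊤ (ι x) (ι t0)
  ne : ¬ Cj ⊤ (ι z0) (ι t0)
  hq : ∀ x ∈ Q0, x * x = 1 → x ∉ Z0 → Cj C1[ι z0] (ι x) (ι v0)
  sc : ∀ y ∈ Q0, ∀ x, Cj C1[ι z0] (ι y) (ι x) → x ∈ Q0

theorem Cj.symm {x y : G} (h : Cj H x y) : Cj H y x := by
  obtain ⟨g, a, rfl⟩ := h
  exact ⟨g⁻¹, inv_mem a, by group⟩
theorem Cj.trans {x y z : G} (h : Cj H x y) (h' : Cj H y z) : Cj H x z := by
  obtain ⟨g, a, rfl⟩ := h
  obtain ⟨k, b, rfl⟩ := h'
  exact ⟨k * g, mul_mem b a, by group⟩
theorem Cj.mono {x y : G} (h : Cj H x y) (l : H ≤ K) : Cj K x y := h.imp fun _ a => ⟨l a.1, a.2⟩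
theorem Cj.top {x y : G} (h : Cj H x y) : Cj ⊤ x y := h.mono le_top
theorem Cj.refl (H : Subgroup G) (x : G) : Cj H x x := ⟨1, one_mem _, by group⟩
theorem cj_g (g x : G) : Cj ⊤ x (g * x * g⁻¹) := ⟨g, trivial, rfl⟩
theorem cj_iff {x y : G} : Cj ⊤ x y ↔ IsConj x y :=
  ⟨fun ⟨g, _, e⟩ => isConj_iff.2 ⟨g, e⟩, fun h => (isConj_iff.1 h).imp fun _ e => ⟨trivial, e⟩⟩

theorem map_le (A : Subgroup Sh) : A.map ι ≤ ι.range := map_le_range _ _
theorem mem_im (h : x ∈ A) : ι x ∈ A.map ι := mem_map_of_mem _ h
theorem mem_rg (x : Sh) : ι x ∈ ι.range := ⟨x, rfl⟩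
theorem rg_pig (ι : Sh →* G) : PiG {2} ι.range := by
  rw [MonoidHom.range_eq_map]
  exact (pig_of_card_pow (n := 9) p2 (by rw [card_top, Sh.card]; rfl)).map ι
theorem map_pig (A : Subgroup Sh) : PiG {2} (A.map ι) := (rg_pig ι).of_le (map_le A)
theorem rg_cen : ι.range ≤ C1[ι z0] := by
  rintro _ ⟨x, rfl⟩
  rw [mem_C1, ← map_mul, ← map_mul, z0_cen]
theorem rg_norm (h : ⊤ ≤ N[A]) : ι.range ≤ N[A.map ι] := by
  rw [MonoidHom.range_eq_map]; exact norm_map h ι
theorem map_Z : Z0.map ι = zpowers (ι z0) := by rw [Z0_eq, MonoidHom.map_zpowers]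
theorem map_C1 (x : Sh) : C1[x].map ι ≤ C1[ι x] := by
  rintro _ ⟨y, a, rfl⟩
  rw [mem_C1, ← map_mul, ← map_mul, mem_C1.1 a]
theorem mem_U (h : a ∈ U0.map ι) (a1 : a ≠ 1) : a = ι z0 ∨ a = ι v0 ∨ a = ι (v0 * z0) := by
  obtain ⟨x, b, rfl⟩ := h
  rcases (mem_U0 x).1 b with rfl | rfl | rfl | rfl
  exacts [(a1 (map_one ι)).elim, .inl rfl, .inr (.inl rfl), .inr (.inr rfl)]
theorem cjsq (e : g * ι x * g⁻¹ = a) (h : x * x = 1) : a * a = 1 := by
  rw [← e, conj_mul, ← map_mul, h]; simp
theorem cj_s (x s : Sh) : Cj ι.range (ι x) (ι (s * x * s⁻¹)) := ⟨ι s, mem_rg s, by simp⟩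
theorem cj_s' (e : ∃ s, s * x * s⁻¹ = y) : Cj ι.range (ι x) (ι y) := by
  obtain ⟨s, rfl⟩ := e
  exact cj_s x s

/-- the map induced by conjugation on a part of `Sh` -/
structure Pull (ι : Sh →* G) (g : G) (A : Subgroup Sh) (σ : Sh → Sh) : Prop where
  eq : ∀ x ∈ A, ι (σ x) = g * ι x * g⁻¹
  mul : ∀ x ∈ A, ∀ y ∈ A, σ (x * y) = σ x * σ y
  inj : ∀ x ∈ A, ∀ y ∈ A, σ x = σ y → x = y
  one : σ 1 = 1

namespace Pull
variable {σ : Sh → Sh} (q : Pull ι g A σ)
include q
theorem ne (a : x ∈ A) (b : y ∈ A) (n : x ≠ y) : σ x ≠ σ y := fun e => n (q.inj x a y b e)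
theorem ne1 (a : x ∈ A) (n : x ≠ 1) : σ x ≠ 1 := q.one ▸ q.ne a (one_mem _) n
theorem sq (a : x ∈ A) (e : x * x = y) : σ x * σ x = σ y := by rw [← q.mul x a x a, e]
theorem sq1 (a : x ∈ A) (e : x * x = 1) : σ x * σ x = 1 := (q.sq a e).trans q.one
theorem cm (a : x ∈ A) (b : y ∈ A) (e : x * y = y * x) : σ x * σ y = σ y * σ x := by
  rw [← q.mul x a y b, ← q.mul y b x a, e]
theorem cj (hg : g ∈ H) (a : x ∈ A) : Cj H (ι x) (ι (σ x)) := ⟨g, hg, (q.eq x a).symm⟩
theorem mem (a : x ∈ A) : ι (σ x) ∈ BG.cj g (A.map ι) := q.eq x a ▸ mem_cj_conj.2 (mem_im a)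
end Pull

namespace TM
variable (h : TM ι)
include h

theorem eq : ι x = ι y ↔ x = y := h.inj.eq_iff
theorem mem_iff : ι x ∈ A.map ι ↔ x ∈ A := mem_map_iff_mem h.inj
theorem ne_one (a : x ≠ 1) : ι x ≠ 1 := fun e => a (h.inj (e.trans (map_one ι).symm))
theorem card (A : Subgroup Sh) : #(A.map ι) = #A := card_map_inj h.inj A
theorem card_rg : #ι.range = 512 := by rw [MonoidHom.range_eq_map, h.card, card_top, Sh.card]
theorem sub (l : ι.range ≤ H) : Syl 2 ι.range H := h.syl.sub l le_top
/-- a `2`-subgroup of `H` is conjugate in `H` into the range -/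
theorem cj_sub (l' : ι.range ≤ H) (l : X ≤ H) (p : PiG {2} X) : ∃ g ∈ H, BG.cj g X ≤ ι.range :=
  (h.sub l').cj_sub p2 l p
theorem sq_of (e : ι x * ι x = 1) : x * x = 1 := h.inj (by rw [map_mul, map_one, e])

theorem pull (l : BG.cj g (A.map ι) ≤ ι.range) : ∃ σ, Pull ι g A σ := by
  have : ∀ x, ∃ y, x ∈ A → ι y = g * ι x * g⁻¹ := fun x => by
    by_cases a : x ∈ A
    · obtain ⟨y, e⟩ := l (mem_cj_conj.2 (mem_im a))
      exact ⟨y, fun _ => e⟩
    · exact ⟨1, fun b => (a b).elim⟩
  choose σ e using this
  refine ⟨σ, e, fun x a y b => h.inj ?_, fun x a y b c => h.inj ?_, h.inj ?_⟩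
  · rw [map_mul, e _ (mul_mem a b), e x a, e y b, map_mul]; group
  · have := (e x a).symm.trans ((congrArg ι c).trans (e y b))
    simpa using this
  · rw [e 1 (one_mem _)]; simp

theorem inf_C1 (x : Sh) : ι.range ⊓ C1[ι x] = C1[x].map ι := by
  refine le_antisymm ?_ (le_inf (map_le _) (map_C1 x))
  rintro _ ⟨⟨y, rfl⟩, a⟩
  exact mem_im (mem_C1.2 (h.inj (by rw [map_mul, map_mul]; exact mem_C1.1 a)))

theorem ord (e : x * x = 1) (n : x ≠ 1) : orderOf (ι x) = 2 :=
  orderOf_of_pow p2 (by rw [pow_two, ← map_mul, e, map_one]) (h.ne_one n)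

/-- a conjugate of `z` is extremal only in `z` -/
theorem toZ (e : Cj ⊤ (ι x) (ι z0)) : ∃ g, g * ι x * g⁻¹ = ι z0 ∧ BG.cj g (C1[x].map ι) ≤ ι.range := by
  obtain ⟨k, -, e⟩ := e
  obtain ⟨c, b, d⟩ := h.cj_sub rg_cen (X := BG.cj k (C1[x].map ι))
    (by rw [← e, ← cj_C1]; exact cj_mono _ (map_C1 x)) ((map_pig _).cj _)
  refine ⟨c * k, ?_, by rwa [cj_mul]⟩
  rw [show c * k * ι x * (c * k)⁻¹ = c * (k * ι x * k⁻¹) * c⁻¹ by group, e, mem_C1.1 b, mul_inv_cancel_right]

theorem toZ' (e : Cj ⊤ (ι x) (ι z0)) : ∃ g σ, Pull ι g C1[x] σ ∧ σ x = z0 := by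
  obtain ⟨g, e, l⟩ := h.toZ e
  obtain ⟨σ, q⟩ := h.pull l
  exact ⟨g, σ, q, h.inj ((q.eq _ (mem_C1_self x)).trans e)⟩

/-- an involution of `H` is conjugate in `H` into the range -/
theorem inv_in (l : ι.range ≤ H) (hw : w ∈ H) (e : w * w = 1) : ∃ x, x * x = 1 ∧ Cj H w (ι x) := by
  obtain ⟨g, a, b⟩ := h.cj_sub l (zpowers_le.2 hw) (pig_zpowers.2 (pie_of_pow p2 ((pow_two w).trans e)))
  obtain ⟨x, c⟩ := b (mem_cj_conj.2 (mem_zpowers w))
  exact ⟨x, h.sq_of (by rw [c, conj_mul, e]; group), g, a, c.symm⟩
end TM

namespace Pat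
variable (h : Pat ι)
include h

theorem sep (a : zc x) (b : xc y) : ¬ Cj ⊤ (ι x) (ι y) := fun e =>
  h.ne (((h.fz x a).symm.trans e).trans (h.fx y b))
theorem zc_of (e : Cj ⊤ (ι z0) (ι x)) : zc x := by
  obtain ⟨g, -, e'⟩ := id e
  rcases zx x (h.sq_of (cjsq e' (by decide +kernel))) with rfl | a | a
  · exact (h.ne_one (show z0 ≠ 1 by decide +kernel) (by simpa using e')).elim
  · exact a
  · exact (h.sep (by decide +kernel) a e).elim
theorem xc_of (e : Cj ⊤ (ι t0) (ι x)) : xc x := by
  obtain ⟨g, -, e'⟩ := id e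
  rcases zx x (h.sq_of (cjsq e' (by decide +kernel))) with rfl | a | a
  · exact (h.ne_one (show t0 ≠ 1 by decide +kernel) (by simpa using e')).elim
  · exact (h.sep a (by decide +kernel) e.symm).elim
  · exact a
theorem zc_cj (a : zc x) (e : Cj ⊤ (ι x) (ι y)) : zc y := h.zc_of ((h.fz x a).symm.trans e)
theorem xc_cj (a : xc x) (e : Cj ⊤ (ι x) (ι y)) : xc y := h.xc_of ((h.fx x a).symm.trans e)
theorem pzc {σ : Sh → Sh} (q : Pull ι g A σ) (a : x ∈ A) (b : zc x) : zc (σ x) := h.zc_cj b (q.cj (mem_top g) a)
theorem pxc {σ : Sh → Sh} (q : Pull ι g A σ) (a : x ∈ A) (b : xc x) : xc (σ x) := h.xc_cj b (q.cj (mem_top g) a)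
/-- the two classes of involutions -/
theorem two (e : w * w = 1) (n : w ≠ 1) : Cj ⊤ (ι z0) w ∨ Cj ⊤ (ι t0) w := by
  obtain ⟨x, a, b⟩ := h.inv_in le_top (mem_top w) e
  rcases zx x a with rfl | c | c
  · obtain ⟨g, -, b⟩ := b
    exact (n (by simpa using b)).elim
  · exact .inl (b.trans (h.fz x c)).symm
  · exact .inr (b.trans (h.fx x c)).symm

end Pat

/-- `E ∩ Q = ⟨U, e⟩` -/
def F0 : Subgroup Sh := Sh.sub 0x5050000000000000000000000000000000000000000000000000000000000000000000000000000000000000000000000000000000000000505 (by decide +kernel) (by decide +kernel) (by decide +kernel)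
instance : DecidablePred (· ∈ F0) := fun x => inferInstanceAs (Decidable (Sh.msk 0x5050000000000000000000000000000000000000000000000000000000000000000000000000000000000000000000000000000000000000505 x = true))
theorem card_F0 : #F0 = 8 := (card_sub _).trans (by decide +kernel)
theorem ab_F : Abelem 2 F0 := ab_of _ (by decide +kernel) (by decide +kernel)
theorem U_F : U0 ≤ F0 := fun x => (by decide +kernel : ∀ x ∈ U0, x ∈ F0) x
theorem F_Q : F0 ≤ Q0 := fun x => (by decide +kernel : ∀ x ∈ F0, x ∈ Q0) x
theorem F_E : F0 ≤ E0 := fun x => (by decide +kernel : ∀ x ∈ F0, x ∈ E0) x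
theorem pow8 : ∀ x : Sh, x ^ 8 = 1 := fun x => by
  have := (by decide +kernel : ∀ x : Sh, x * x * (x * x) * (x * x * (x * x)) = 1) x
  simpa only [pow_succ, pow_zero, one_mul, mul_assoc] using this

/-- `g` acts on `A` as `f` -/
def Act (ι : Sh →* G) (g : G) (A : Subgroup Sh) (f : Sh → Sh) : Prop := ∀ x ∈ A, g * ι x * g⁻¹ = ι (f x)
theorem Act.mono {f : Sh → Sh} (h : Act ι g A f) (l : B ≤ A) : Act ι g B f := fun x a => h x (l a)
theorem Act.mul {f f' : Sh → Sh} (h : Act ι g A f) (h' : Act ι w A f') (m : ∀ x ∈ A, f' x ∈ A) :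
    Act ι (g * w) A (fun x => f (f' x)) := fun x a => by rw [← h _ (m x a), ← h' x a]; group
theorem act_s (s : Sh) (A : Subgroup Sh) : Act ι (ι s) A (fun x => s * x * s⁻¹) := fun x _ => by simp
/-- an involution `b` with `(s b)³ = 1` acting on `A` as the table `T` -/
def Has (ι : Sh →* G) (s : Sh) (A : Subgroup Sh) (T : ℕ) (b : G) : Prop :=
  b * b = 1 ∧ (ι s * b) ^ 3 = 1 ∧ Act ι b A (Sh.tb T)
/-- the actions of `b` on `Ra`, of `c` on `Rb`, of `d` on `Rc`; `BA`, `BB`, `BC` occur in `HS` -/
def BA : ℕ := 0xa753e994da8546a553b359ec965bc5e6f57bbf5fef97da05068543ab55ea955b45a6d56bb75bed96db85c6e573a351e8945ac566b55baf57eb95db0586c563bb5dee975a4526954b000000000000000000000000000000000000000000000000000000000000000000000000000000000000000000000000000000000000000000000000000000000000000000000000f77bfd9edf87c7e5f3e371f89c5ec767b5dbef77fb9ddf0787c5e3fb7dfe9f5e472795cbe773f99cde8747a5d3f379fc9e5fc7e7f5fbff7fff9fde070785c3eb75fa9d5f47a7d5eb000000000000000000000000000000000000000000000000000000000000000000000000000000000000000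00000000000000000000000000000000000000000000000000000000000000000000000000000000000000000000000000000000000000000000000000000000000000000000000000000000000000000000000000000000000000000000000000000000052a994ea45dae172ba46a391e8c49a4122924aa592e9455aa152aa5eaf97ebc41a01028242a190e844da61329a56ab95eac59ac162b25aad96eb445a21128a4ea793e9c51a8142a2000000000000000000000000000000000000000000000000000000000000000000000000000000000000000000000000000000000000000000000000000000000000000000000000038100a060c8683618178b05a2e188c866301b8d06a360482816080f8703a1e108884620138904a261c8e87638078301a0e0884826100b8502a16148a856281f8f07a3e008080600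
def BA' : ℕ := 0x5faf17abe57ab15aae4fa713a9e47a311a8e5dae172ba55aa152aa4da61329a45a21128a5bad16ab653a914aa64ba512a9643a110a8659ac162b251a8142a249a41229241a010282000000000000000000000000000000000000000000000000000000000000000000000000000000000000000000000000000000000000000000000000000000000000000000000000bedfaff7cb6dbadf6caed7abf5ca6d3a9f4cbcdeaf778b4daad768acd6ab758a4d2a9748baddaef74b2d9acf64aad5aaf54a2d1a8f44b8dcae770b0d8ac760a8d4aa750a0d0a8740000000000000000000000000000000000000000000000000000000000000000000000000000000000000000000000000000000000000000000000000000000000000000000000000000000000000000000000000000000000000000000000000000000000000000000000000000000000000000000000000000000000000000000000000000000000000000000000000ffff3fbfef7fb3dbeeeff73bbdee7f339bcefdfe3f3faf5fa3d3eaedf63b3dae5f2393cafbfd3ebf6f3f93cbe6ebf53abd6e3f138bc6f9fc3e3f2f1f83c3e2e9f43a3d2e1f0383c20000000000000000000000000000000000000000000000000000000000000000000000000000000000000000000000000000000000000000000000000000000000000000000000001e8f87e3c168b85e2c0e8783e1c068381e0c1c8e87638148a856280c86836180482816081a8d86e34128984e240a8582e14028180e04188c86630108884620088482610008080600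
def BB : ℕ := 0x2a94cba5b2e168a8522b944be592f160ac503298cda6b361a8c86233984de69371a0cc603a9ccfa7b3e1e8e8723b9c4fe793f1e0ec702290c9a4b261288842239049e49271208c40cae4f3b9bce66b2992cbe473f99cf6632d90d2e8f5babd66ab49a2d3e875fa9d76a34da0daecf7bbbde6eb69b2dbec77fb9df6e36db0c2e0f1b8bc662b0982c3e071f89c76230d80000000000000000000000000000000000000000000000000000000000000000000000000000000000000000000000000000000000000000000000000000000000000000000000000000000000000000000000000000000000000000000000000000000000000000000000000000000000000000000000000000000000000000000000000000000000000000000000000000000000000000000000000000000000000000000000000000000000000000000000000000000000000000000000000000000000000000000000000000000000000000000000000000000000000000000000000000000000000000000000000000000000000000000000000000000000000000000000000000000000000000000000000000000000000000000000000eaf4fbbdbee76ba9d2ebf47bfd9ef763add0f2f8fdbebf67abc9e2f3f87dfe9f77a3cde0fafcffbfbfe7ebe9f2fbfc7fff9ff7e3edf0e2f0f9bcbe672b89c2e3f079fc9e77238dc00a84c3a1b0e06828120b8443e190f0602c101288c5a2b160a84822138845e29170a04c201a8cc7a3b1e0e868321b8c47e391f0e06c300280c1a0b060280802038041e09070200c00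
def BB' : ℕ := 0x29150b45c2d974a65528158b05e2c97ca257339a4de6136188c86a329acda6337180cc683c1f8e076389dcf27f3d1f0e474399d4f67d2690c8a4b231209c40279048e49221289842cd6732594c9e57379dcc67b2196c8e5f339fd7e874fa9d26ab59a2d6e8f4babd36a35da0d86db71bedceff63b7d96d375bcddef767b5c2e2f1b83c76030d88c3e271f81c660b098a000000000000000000000000000000000000000000000000000000000000000000000000000000000000000000000000000000000000000000000000000000000000000000000000000000000000000000000000000000000000000000000000000000000000000000000000000000000000000000000000000000000000000000000000000000000000000000000000000000000000000000000000000000000000000000000000000000000000000000000000000000000000000000000000000000000000000000000000000000000000000000000000000000000000000000000000000000000000000000000000000000000000000000000000000000000000000000000000000000000000000000000000000000000000000000000000ec77ba1d6e8f5fb3dfed773a5d4e9f57b7ddf6f8fcbebf37a3dde0f7f87cfe9f27abd9e2f97d3f5fcfdff7e7f5f87dbf1fefcfffe3f7e3f279fc1e670b89cae2f2f9bc3e77038dc808058301e0c87c221709050341c0d8742615128ac5a23170804c28138a45e2116088482a1d0f06434198d4763d1c0f86036188dc723f078040e090202818020680c0a0b030201c00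
def BC : ℕ := 0xa150e8141000000000402050483000000000000000000000000000000000000000000000e4f2b97c800000000005820120a0000000000000000000000000000000000000000000006030584c30000000008140e0101000000000000000000000000000000000000000000000c5e23138a00000000024928964800000000000000000000000000000000000000000000051a8142a2000000000b1d82c362000000000000000000000000000000000000000000000150ac5029000000000f57afd1e900000000000000000000000000000000000000000000094caa572800000000074ba9d6e80000000000000000000000000000000000000000000003118cc061000000000d168f41a100000000000000000000000000000000000000000000090c8a472000000000070b89c6e0000000000000000000000000000000000000000000000341a4d46b000000000d46a755ab00000000000000000000000000000000000000000000055aa152aa000000000b5da2d36a000000000000000000000000000000000000000000000100844423000000000f0787c5e30000000000000000000000000000000000000000000006432594cb0000000008542e1109000000000000000000000000000000000000000000000c0e0b0780000000000219008242000000000000000000000000000000000000000000000a552e914900000000044225148b000000000000000000000000000000000000000000000e1f0383c2000000000008080600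
def BC' : ℕ := 0x5128d40a1000000000b45a6d56b000000000000000000000000000000000000000000000048281608000000000e0f0b87c0000000000000000000000000000000000000000000000904864523000000000753add0e900000000000000000000000000000000000000000000025920924a000000000c1e030382000000000000000000000000000000000000000000000f0787c5e3000000000150ac5029000000000000000000000000000000000000000000000a5d22934a00000000041a0102820000000000000000000000000000000000000000000003118cc061000000000d46a755ab00000000000000000000000000000000000000000000084c2a170800000000060b0986c0000000000000000000000000000000000000000000000d168f41a1000000000341a4d46b00000000000000000000000000000000000000000000064b2996c800000000080c0a0700000000000000000000000000000000000000000000000100844423000000000f57afd1e900000000000000000000000000000000000000000000045a21128a000000000a1d02834200000000000000000000000000000000000000000000070385c4e3000000000954ae5129000000000000000000000000000000000000000000000c5e23138a000000000219008242000000000000000000000000000000000000000000000b158ec161000000000542a554ab000000000000000000000000000000000000000000000e4f2b97c8000000000008080600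

end Cfsg.Agent.HY
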