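import Cfsg.Agent.HY.FusD

/-! # The searches, part B -/

set_option autoImplicit false
set_option linter.unusedVariables false
set_option linter.unusedSectionVars false

namespace Cfsg.Agent.HY
open Cfsg Cfsg.Agent.BG Subgroup PHom Sh
open Cfsg.Agent.S3F (p2 SCl)

theorem s2_2 : Chk ok1 a0 [a0] [z0]
    [(68, [([0, 0, 1], [])]), (462, [([0, 1], []), ([0, 1, 2], [])])]
    [[0], [2], [0, 1], [0, 2], [1, 1], [0, 1, 2], [1, 1, 2]] (P2) := by decide +kernel
theorem s2_8 : Chk ok1 a0 [a0] [v0]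
    [(70, [([0, 1], [1, 0]), ([0, 0, 1], [])]), (384, [([0, 1], []), ([0, 2], [])])]
    [[0], [2], [0, 1], [0, 2], [1, 1], [0, 1, 2], [1, 1, 2]] (P2) := by decide +kernel
theorem s2_32 : Chk ok1 a0 [a0] [f0]
    [(74, [([0, 1], [])]), (72, [([0, 1], []), ([0, 2], []), ([0, 1, 2], [])]), (452, [([0, 3], []), ([0, 1], []), ([0, 2], []), ([0, 1, 2], []), ([0, 1, 3], [])])]
    [] (P2) := by decide +kernel

end Cfsg.Agent.HY
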