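import Cfsg.Agent.HY.FusD

/-! # The searches, part C -/

set_option autoImplicit false
set_option linter.unusedVariables false
set_option linter.unusedSectionVars false

namespace Cfsg.Agent.HY
open Cfsg Cfsg.Agent.BG Subgroup PHom Sh
open Cfsg.Agent.S3F (p2 SCl)

theorem s5_8 : Chk ok4 v0 [v0] [z0]
    [(2, [([0, 1], [])]), (492, [([0, 0, 1], [])]), (493, [([0, 1], []), ([0, 1], [1, 0])])]
    [] (fun _ ys => Nat.beq (clN (ys.getD 2 0)) 2) := by decide +kernel
theorem s5_448 : Chk ok4 e0 [e0] [z0]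
    [(2, [([0, 1], [])]), (129, [([0, 0, 1], [])]), (75, [([0, 1], []), ([1, 0, 3], [0, 1])])]
    [] (fun _ ys => Nat.beq (clN (ys.getD 2 0)) 2) := by decide +kernel
theorem s5_128 : Chk ok4 q0 [q0] [z0]
    [(2, [([0, 1], [])]), (451, [([0, 0, 1], [])]), (482, [([0, 0, 2], []), ([0, 1], []), ([1, 0, 1], [0])])]
    [] (fun _ ys => Nat.beq (clN (ys.getD 2 0)) 2) := by decide +kernel

end Cfsg.Agent.HY
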