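import Cfsg.Agent.HY.FusA
import Cfsg.Agent.HY.FusB
import Cfsg.Agent.HY.FusC
import Cfsg.Agent.SO.TT

/-! # Fusion -/

set_option autoImplicit false
set_option linter.unusedVariables false
set_option linter.unusedSectionVars false

namespace Cfsg.Agent.HY
open Cfsg Cfsg.Agent.BG Subgroup PHom Sh
open Cfsg.Agent.S3F (p2 SCl)

universe u

variable {G : Type u} [Group G] [Finite G] {ι : Sh →* G} {H K M X Y : Subgroup G} {A B : Subgroup Sh} {x y v : Sh}
  {a b c d g w : G}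

namespace Fus
def ty (c : ℕ) : ℕ := if c = 0 then 0 else if c ≤ 9 then 1 else c
theorem ty_cl : ∀ x, cl x < 12 ∧
    ty (cl x) = if x = 1 then 0 else if x * x = 1 then 1 else if x * x * (x * x) = 1 then 10 else 11 := by
  decide +kernel
theorem cardC : ∀ i < 10, #C1[rep i] = [512, 512, 256, 128, 64, 32, 32, 64, 32, 32].getD i 0 := fun i h =>
  (card_sub _).trans ((by decide +kernel : ∀ i < 10, (all.filter (· ∈ C1[rep i])).length =
    [512, 512, 256, 128, 64, 32, 32, 64, 32, 32].getD i 0) i h)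
theorem cardD : ∀ p ∈ [(1, 256), (9, 256), (33, 128), (129, 32), (145, 32), (449, 64), (453, 64)], #C1[mk' p.1] = p.2 :=
  fun p h => (card_sub _).trans ((by decide +kernel : ∀ p ∈ [(1, 256), (9, 256), (33, 128), (129, 32), (145, 32),
    (449, 64), (453, 64)], (all.filter (· ∈ C1[mk' p.1])).length = p.2) p h)
theorem r4 : ∀ v : Sh, v * v = z0 → ∃ r ∈ [1, 9, 33, 129, 145, 449, 453], (v ∈ Q0 ↔ r ≠ 145 ∧ r ≠ 453) ∧
    ∃ s, s * v * s⁻¹ = mk' r := by decide +kernel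
theorem r453 : ∀ v : Sh, tst c453 v.n = true → ∃ s, s * v * s⁻¹ = mk' 453 := by decide +kernel
/-- an automorphism interchanging the classes of `a` and `b` -/
def TW : ℕ := 0xffffbfbfcfdfebf3f8fbfdbebf4f9fcbe3f0f7fbbdbecf5fabd3e8f3f9bcbe4f1f8bc3e0eff7bbbdcedf6bb3d8ebf5babd4e9f4ba3d0e7f3b9bcce5f2b93c8e3f1b8bc4e1f0b83c0de6ff7dbddc6ef75b9da6df6db5d86cf65b1d66bf5dadd46af55a9d269f4da5d068f45a1ce67f3d9dcc66f3599ca65f2d95c864f2591c663f1d8dc462f1589c261f0d85c060f0581bfdfafb7cbddeaf378bbddaeb74b9dcae370b7dbadb6cb5daad368b3d9acb64b1d8ac360afd7abb5cadd6ab358abd5aab54a9d4aa350a7d3a9b4ca5d2a9348a3d1a8b44a1d0a83409e4fe7d3d9c4ee75399a4de6d35984ce6531964be5d2d944ae55299249e4d259048e45218e47e3d1d8c46e35198a45e2d158844e25118643e1d0d8442e15098241e0d058040e05017e3fdfcfd7c3edf4f97a3ddecf5783cde4f1763bddced743add4e97239dcce57038dc4e16e37dbcdd6c36db4d96a35dacd56834da4d16633d9ccd6432d94c96231d8cc56030d84c15faf97abc5dae972b85bad96ab459ac962b057ab95aac55aa952a853a994aa451a8942a04fa793a9c4da6932984ba592a9449a49229047a391a8c45a29128843a190a8441a0902803e1fcfc7d3c1ecf4793a1dcec75381cce471361bcdc6d341acd4693219ccc653018cc4612e17cbc5d2c16cb4592a15cac552814ca4512613c9c4d2412c94492211c8c452010c84411f8f87a3c1d8e872381b8d86a34198c86230178b85a2c158a85228138984a241188842200f8783a1c0d86832180b8582a14098482210078381a0c058281208038180a04018080200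
theorem tw_mul (x y : Sh) : tb TW (x * y) = tb TW x * tb TW y := by
  have k : ∀ g ∈ [a0, q0, t0], ∀ x, tb TW (x * g) = tb TW x * tb TW g := by decide +kernel
  have o : tb TW 1 = 1 := by decide +kernel
  have m : y ∈ closure {a0, q0, t0} := gen_top ▸ mem_top y
  induction m using closure_induction generalizing x with
  | mem g a => exact k g (by simpa using a) x
  | one => rw [mul_one, o, mul_one]
  | mul y w _ _ a b => rw [← mul_assoc, b, a, b, mul_assoc]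
  | inv y _ a =>
    have i := a y⁻¹
    rw [inv_mul_cancel, o] at i
    rw [← mul_left_inj (tb TW y), ← a, inv_mul_cancel_right, mul_assoc, ← i, mul_one]
def tw : Sh →* Sh := MonoidHom.mk' (tb TW) tw_mul
theorem tw_inj : Function.Injective tw := (injective_iff_map_eq_one tw).2 (by decide +kernel : ∀ x, tb TW x = 1 → x = 1)

theorem bad_s {C : List ℕ} {E : List (ℕ × ℕ)} (h : ∀ e ∈ E, Fu ι ⊤ e.1 e.2) (n : ∀ c ∈ C, ¬ Fu ι ⊤ 7 c)
    (e : bad C E = true) : False := by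
  obtain ⟨c, a, b⟩ := List.any_eq_true.1 e
  exact n c a (con_s h b)
theorem app {E F : List (ℕ × ℕ)} (h : ∀ e ∈ E, Fu ι K e.1 e.2) (h' : ∀ e ∈ F, Fu ι ⊤ e.1 e.2) :
    ∀ e ∈ E ++ F, Fu ι ⊤ e.1 e.2 := List.forall_mem_append.2 ⟨fun e a => (h e a).top, h'⟩
theorem fixz (a : g ∈ C1[ι z0]) : g * ι z0 * g⁻¹ = ι z0 := by rw [mem_C1.1 a, mul_inv_cancel_right]
theorem zC (x : Sh) : z0 ∈ C1[x] := mem_C1.2 (z0_cen x).symm
end Fus
open Fus

namespace TM
variable (h : TM ι)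
include h

theorem ty_eq (e : Cj ⊤ (ι x) (ι y)) : ty (cl x) = ty (cl y) := by
  obtain ⟨g, -, e⟩ := e
  have k : ∀ {x y}, g * ι x * g⁻¹ = ι y → (x = 1 ↔ y = 1) := fun {x y} e => by
    rw [← h.eq, ← h.eq (y := 1), ← e, map_one, conj_eq_one_iff]
  have m : ∀ {x y}, g * ι x * g⁻¹ = ι y → g * ι (x * x) * g⁻¹ = ι (y * y) := fun {x y} e => by
    rw [map_mul, map_mul, ← e, conj_mul]
  rw [(ty_cl x).2, (ty_cl y).2]
  simp only [k e, k (m e), k (m (m e))]

theorem ok_of {C ok : List ℕ} {E : List (ℕ × ℕ)} (hE : ∀ e ∈ E, Fu ι ⊤ e.1 e.2) (n : ∀ c ∈ C, ¬ Fu ι ⊤ 7 c)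
    (k : ∀ c < 12, ∀ y : Sh, tst (ok.getD c 0) y.n = true ∨ ty c ≠ ty (cl y) ∨
      (c ≤ 9 ∧ cl y ≤ 9 ∧ bad C ((c, cl y) :: E) = true)) : Ok ι ok := fun x y e => by
  rcases k _ (ty_cl x).1 y with i | i | ⟨a, b, i⟩
  · exact i
  · exact (i (h.ty_eq e)).elim
  · exact (bad_s (E := (cl x, cl y) :: E) (List.forall_mem_cons.2
      ⟨((cj_rep le_top a).symm.trans e).trans (cj_rep le_top b), hE⟩) n i).elim

theorem mrun {ok L W P} (c : Chk ok x [x] [v] L W P) (o : Ok ι ok) (m : Mp ι K x v) :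
    ∃ E ys, (∀ e ∈ E, Fu ι ⊤ e.1 e.2) ∧ P E ys = true := by
  obtain ⟨g, -, σ, q, e⟩ := m
  obtain ⟨E, a, b⟩ := h.run c q o le_top (mem_top g) (by simp [e])
  exact ⟨E, _, a, b⟩
theorem mno {ok L W} (c : Chk ok x [x] [v] L W fun _ _ => false) (o : Ok ι ok) (m : Mp ι K x v) : False := by
  obtain ⟨_, _, -, e⟩ := h.mrun c o m
  exact Bool.noConfusion e

theorem ext2 (l : ι.range ≤ K) (x2 : x * x = 1) (x1 : x ≠ 1) (e : Cj K (ι x) (ι y)) :
    ∃ k, 1 ≤ k ∧ k < 10 ∧ Mp ι K x (rep k) ∧ Mp ι K y (rep k) := by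
  obtain ⟨v, m, m'⟩ := h.ext l e
  obtain ⟨g, -, σ, q, rfl⟩ := id m
  have i := (cl_sq _).1 (q.sq1 (mem_C1_self x) x2)
  exact ⟨_, (by decide +kernel : ∀ x : Sh, x ≠ 1 → 1 ≤ cl x) _ (q.ne1 (mem_C1_self x) x1), by omega,
    m.adj l (cl_rep _ i), m'.adj l (cl_rep _ i)⟩

theorem o0 : Ok ι ok0 := h.ok_of (C := []) (E := []) (by simp) (by simp) (by decide +kernel)

theorem n7 : ∀ c ∈ C4, ¬ Fu ι ⊤ 7 c := fun c hc e => by
  obtain ⟨k, k1, k2, m, m'⟩ := h.ext2 le_top (by decide +kernel) (by decide +kernel) e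
  have c1 := m.card
  have c2 := m'.card
  have c9 : c < 10 := (by decide : ∀ c ∈ C4, c < 10) c hc
  rw [cardC _ (by decide), cardC _ k2] at c1
  rw [cardC _ c9, cardC _ k2] at c2
  interval_cases k
  · exact h.mno s1_2 h.o0 m
  · exact h.mno s1_8 h.o0 m
  · exact h.mno s1_32 h.o0 m
  · exact h.mno s1_448 h.o0 m
  · simp at c1
  · simp at c1
  · obtain rfl : c = 4 := (by decide : ∀ c ∈ C4, [512, 512, 256, 128, 64, 32, 32, 64, 32, 32].getD c 0 ≤ 64 → c = 4) c hc c2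
    exact h.mno s1e h.o0 m'
  · simp at c1
  · simp at c1

variable [IsSimpleGroup G]

theorem nab : ¬ IsMulCommutative G := fun c => (show a0 * q0 ≠ q0 * a0 by decide +kernel) (h.inj (by
  rw [map_mul, map_mul]; exact c.1.1 _ _))

theorem tt (x2 : x * x = 1) (x1 : x ≠ 1) : Mp ι ⊤ x z0 ∨ Mp ι ⊤ x v0 ∨ Mp ι ⊤ x f0 ∨ Mp ι ⊤ x e0 ∨ Mp ι ⊤ x s0 := by
  have i : M0.index = 2 := by
    have := M0.card_mul_index
    rw [Sh.card, card_sub, show (all.filter (· ∈ M0)).length = 256 by decide +kernel] at this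
    omega
  obtain ⟨g, -, a, b⟩ := SO.tt h.nab h.syl (· ∈ M0.map ι) (by
    rintro _ ⟨x, rfl⟩ _ ⟨y, rfl⟩
    rw [← map_mul, h.mem_iff, h.mem_iff, h.mem_iff, mul_mem_iff_of_index_two i]) (u := ι x)
    (by rw [← map_mul, x2, map_one]) (map_pig C1[x]) fun d hd => mem_C1.1 (map_C1 x hd)
  obtain ⟨σ, q⟩ := h.pull (g := g) (A := C1[x]) fun y hy => by
    obtain ⟨d, j, rfl⟩ := exists_of_mem_cj hy
    exact b d j
  have i := (cl_sq _).1 (q.sq1 (mem_C1_self x) x2)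
  have m := Mp.adj ⟨g, mem_top g, σ, q, rfl⟩ le_top (cl_rep _ i)
  rcases (by decide +kernel : ∀ y ∈ M0, cl y ≤ 9 → y ≠ 1 → cl y = 1 ∨ cl y = 2 ∨ cl y = 3 ∨ cl y = 4 ∨ cl y = 7) _
    (h.mem_iff.1 (q.eq x (mem_C1_self x) ▸ a)) i (q.ne1 (mem_C1_self x) x1) with j | j | j | j | j <;> rw [j] at m
  exacts [.inl m, .inr (.inl m), .inr (.inr (.inl m)), .inr (.inr (.inr (.inl m))), .inr (.inr (.inr (.inr m)))]

theorem st2 : Fu ι ⊤ 1 2 ∧ (Fu ι ⊤ 4 6 ∧ Fu ι ⊤ 7 9 ∨ Fu ι ⊤ 4 9 ∧ Fu ι ⊤ 7 6) := by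
  have o : Ok ι ok1 := h.ok_of (E := []) (by simp) h.n7 (by decide +kernel)
  obtain ⟨E, ys, a, b⟩ : ∃ E ys, (∀ e ∈ E, Fu ι ⊤ e.1 e.2) ∧ P2 E ys = true := by
    rcases h.tt (x := a0) (by decide +kernel) (by decide +kernel) with m | m | m | m | m
    exacts [h.mrun s2_2 o m, h.mrun s2_8 o m, h.mrun s2_32 o m, h.mrun s2_448 o m, h.mrun s2_452 o m]
  simp only [P2, Bool.and_eq_true, Bool.or_eq_true] at b
  exact ⟨con_s a b.1, b.2.imp (And.imp (con_s a) (con_s a)) (And.imp (con_s a) (con_s a))⟩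

set_option maxHeartbeats 1600000 in
theorem pat2 (k2 : ∀ e ∈ K2, Fu ι ⊤ e.1 e.2) : Pat ι := by
  have n := h.n7
  have o2 : Ok ι ok2 := h.ok_of k2 n (by decide +kernel)
  have nb : ∀ {v L W}, Chk ok2 t0 [t0] [v] L W (fun E _ => bad C4 (E ++ K2)) → ¬ Mp ι ⊤ t0 v := fun c m => by
    obtain ⟨E, _, a, b⟩ := h.mrun c o2 m
    exact bad_s (app a k2) n b
  have mt : Mp ι ⊤ t0 s0 := by
    rcases h.tt (x := t0) (by decide +kernel) (by decide +kernel) with m | m | m | m | m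
    exacts [(nb s3_2 m).elim, (nb s3_8 m).elim, (nb s3_32 m).elim, (nb s3_448 m).elim, m]
  have f78 : Fu ι ⊤ 7 8 := mt.cj.symm
  obtain ⟨g, -, σ, q, e⟩ := mt
  have ez : σ z0 = z0 := by
    obtain ⟨E, a, b⟩ := h.run s3a q o2 le_top (mem_top g) (by simp [e])
    exact (Bool.or_eq_true _ _ ▸ b).elim (fun i => (bad_s (app a k2) n i).elim)
      fun i => Sh.ext (Nat.eq_of_beq_eq_true i)
  have gH : g ∈ C1[ι z0] := mem_C1.2 (mul_inv_eq_iff_eq_mul.1 ((q.eq _ (zC _)).symm.trans (congrArg ι ez)))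
  have f23 : Fu ι C1[ι z0] 2 3 := by
    obtain ⟨E, a, b⟩ := h.run s3b q o2 rg_cen gH (by simp [e, ez])
    exact (Bool.or_eq_true _ _ ▸ b).elim (fun i => (bad_s (app a k2) n i).elim) (con_s a)
  have ti : Cj C1[ι z0] (ι i0) (ι (mk' 453)) ∨ Cj C1[ι z0] (ι (mk' 145)) (ι (mk' 453)) := by
    obtain ⟨E, a, b⟩ := h.run s3c q o2 rg_cen gH (by simp [e, ez])
    have iC : i0 ∈ C1[t0] := by decide +kernel
    refine (Bool.or_eq_true _ _ ▸ b).imp (fun i => (q.cj gH iC).trans ((cj_s' (r453 _ i)).mono rg_cen)) fun i => ?_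
    refine (((cj_s' (by decide +kernel : ∃ s, s * mk' 145 * s⁻¹ = t0 * i0)).mono rg_cen).trans
      (q.cj gH (mul_mem (mem_C1_self _) iC))).trans ((cj_s' (r453 _ ?_)).mono rg_cen)
    rw [q.mul _ (mem_C1_self _) _ iC, e]
    exact i
  have k3 : ∀ e ∈ K3, Fu ι ⊤ e.1 e.2 := app (E := K2) (F := [(2, 3), (7, 8)]) k2 (by simp [show Fu ι ⊤ 2 3 from f23.top, f78])
  have o3 : Ok ι ok3 := h.ok_of k3 n (by decide +kernel)
  have f45 : Fu ι ⊤ 4 5 := by
    obtain ⟨E, ys, a, b⟩ : ∃ E, ∃ ys : List ℕ, (∀ e ∈ E, Fu ι ⊤ e.1 e.2) ∧ con (E ++ K3) 4 5 = true := by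
      rcases h.tt (x := q0) (by decide +kernel) (by decide +kernel) with m | m | m | m | m
      exacts [h.mrun s4_2 o3 m, h.mrun s4_8 o3 m, h.mrun s4_32 o3 m, h.mrun s4_448 o3 m, h.mrun s4_452 o3 m]
    exact con_s (app a k3) b
  have k4 : ∀ e ∈ K4, Fu ι ⊤ e.1 e.2 := app (E := K3) (F := [(4, 5)]) k3 (by simp [f45])
  have o4 : Ok ι ok4 := h.ok_of k4 n (by decide +kernel)
  have f41 : Fu ι ⊤ 4 1 := by_contra fun c => by
    rcases GF.gs' h.nab h.syl (A := V0.map ι) (ne_bot_of_mem (mem_im (show z0 ∈ V0 by decide +kernel))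
      (h.ne_one (by decide +kernel))) (ab_V.map ι).abel ⟨map_le _, by
        rintro _ ⟨x, a, rfl⟩ g ⟨y, e⟩
        have j : Cj ⊤ (ι x) (ι y) := ⟨g, trivial, e.symm⟩
        have b : cl y ≤ 9 := (cl_sq _).1 (h.sq_of (cjsq e.symm ((pow_two x).symm.trans (ab_V.pow x a))))
        have a' : cl x ≤ 3 := (by decide +kernel : ∀ x ∈ V0, cl x ≤ 3) x a
        have k : ∀ e ∈ (cl x, cl y) :: K4, Fu ι ⊤ e.1 e.2 := List.forall_mem_cons.2
          ⟨((cj_rep le_top (by omega)).symm.trans j).trans (cj_rep le_top b), k4⟩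
        rcases (by decide +kernel : ∀ c < 4, ∀ y, cl y ≤ 9 → y ∈ V0 ∨ ty c ≠ ty (cl y) ∨
          con ((c, cl y) :: K4) 4 1 = true ∨ bad C4 ((c, cl y) :: K4) = true) (cl x) (by omega) y b with i | i | i | i
        exacts [e ▸ mem_im i, (i (h.ty_eq j)).elim, (c (con_s k i)).elim, (bad_s k n i).elim]⟩ with ⟨M, se⟩ | ⟨i, -⟩
    · exact n 1 (by decide) (cj_iff.2 (Inv.se_isConj se (h.ord (by decide +kernel) (by decide +kernel))
        (h.ord (by decide +kernel) (by decide +kernel))))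
    · have := h.card_rg
      rw [i, h.card, card_V0] at this
      omega
  have k5 : ∀ e ∈ (4, 1) :: K4, Fu ι ⊤ e.1 e.2 := List.forall_mem_cons.2 ⟨f41, k4⟩
  have fz : ∀ x, zc x → Cj ⊤ (ι x) (ι z0) := fun x a => (cj_rep le_top (a.2.trans (by decide))).trans
    (con_s k5 ((by decide +kernel : ∀ c ≤ 6, 1 ≤ c → con ((4, 1) :: K4) c 1 = true) _ a.2 a.1))
  have five : ∀ {x L}, L.length = 3 → (XL L [x]).getD 2 1 = z0 → zc x →
      Chk ok4 x [x] [z0] L [] (fun _ ys => Nat.beq (clN (ys.getD 2 0)) 2) →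
      ∃ g, g * ι x * g⁻¹ = ι z0 ∧ g * ι z0 * g⁻¹ ∈ {a | Cj C1[ι z0] a (ι v0)} := fun {x L} l1 l2 a c => by
    obtain ⟨g, σ, q, e⟩ := h.toZ' (fz x a)
    obtain ⟨E, -, b⟩ := h.run c q o4 le_top (mem_top g) (by simp [e])
    have i : cl (σ z0) = 2 := by
      have u := Nat.eq_of_beq_eq_true b
      rw [show (0 : ℕ) = (1 : Sh).n from rfl, List.getD_map, ← q.one, List.getD_map, l2] at u
      exact u
    refine ⟨g, (q.eq _ (mem_C1_self x)).symm.trans (congrArg ι e), ?_⟩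
    rw [← q.eq _ (zC x)]
    have := cj_rep (ι := ι) rg_cen (x := σ z0) (by omega)
    rwa [i] at this
  obtain ⟨r, r1, r2⟩ := five rfl (by decide +kernel) (by decide +kernel) s5_8
  have sv : ∀ {x}, (∃ g, g * ι x * g⁻¹ = ι z0 ∧ g * ι z0 * g⁻¹ ∈ {a | Cj C1[ι z0] a (ι v0)}) →
      Cj C1[ι z0] (ι x) (ι v0) := by
    rintro x ⟨g, a, k, k1, k2⟩
    refine Cj.trans ⟨r * (k * g), mem_C1.2 (mul_inv_eq_iff_eq_mul.1 ?_), ?_⟩ r2
    · conv_rhs => rw [← r1, ← k2]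
      group
    · conv_rhs => rw [← fixz k1, ← a]
      group
  have hq : ∀ x ∈ Q0, x * x = 1 → x ∉ Z0 → Cj C1[ι z0] (ι x) (ι v0) := fun x a b c => by
    have i := cj_rep (ι := ι) rg_cen ((cl_sq x).1 b)
    rcases (by decide +kernel : ∀ x ∈ Q0, x * x = 1 → x ∉ Z0 → cl x = 2 ∨ cl x = 3 ∨ cl x = 4 ∨ cl x = 5) x a b c with
      j | j | j | j <;> rw [j] at i
    exacts [i, i.trans f23.symm, i.trans (sv (five rfl (by decide +kernel) (by decide +kernel) s5_448)),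
      i.trans (sv (five rfl (by decide +kernel) (by decide +kernel) s5_128))]
  have fx : ∀ x, xc x → Cj ⊤ (ι x) (ι t0) := fun x a => (cj_rep le_top a.2).trans
    (con_s k5 ((by decide +kernel : ∀ c ≤ 9, 7 ≤ c → con ((4, 1) :: K4) c 8 = true) _ a.2 a.1))
  have N : ∀ y ∈ Q0, y * y = z0 → ¬ Cj C1[ι z0] (ι y) (ι (mk' 453)) := fun y a b c => by
    obtain ⟨p, p1, p2, p3⟩ := r4 y b
    obtain ⟨v, m, m'⟩ := h.ext rg_cen (c.symm.trans ((cj_s' p3).mono rg_cen))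
    obtain ⟨g, gH, σ, q, rfl⟩ := id m
    obtain ⟨r, r1, -, r3⟩ := r4 _ ((q.sq (mem_C1_self _) (show _ = z0 by decide +kernel)).trans
      (h.inj ((q.eq _ (zC _)).trans (fixz gH))))
    replace m := m.adj rg_cen r3
    replace m' := m'.adj rg_cen r3
    have c1 := m.card
    have c2 := m'.card
    have p4 := p2.1 a
    simp only [List.mem_cons, List.not_mem_nil, or_false] at r1 p1
    rcases r1 with rfl | rfl | rfl | rfl | rfl | rfl | rfl
    · exact h.mno s6b_1 o4 m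
    · exact h.mno s6b_9 o4 m
    · exact h.mno s6b_33 o4 m
    · rw [cardD (453, 64) (by simp), cardD (129, 32) (by simp)] at c1; omega
    · rw [cardD (453, 64) (by simp), cardD (145, 32) (by simp)] at c1; omega
    · exact h.mno s6b_449 o4 m
    rw [cardD (453, 64) (by simp)] at c2
    rcases p1 with rfl | rfl | rfl | rfl | rfl | rfl | rfl
    · rw [cardD (1, 256) (by simp)] at c2; omega
    · rw [cardD (9, 256) (by simp)] at c2; omega
    · rw [cardD (33, 128) (by simp)] at c2; omega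
    · exact h.mno s6c_129 o4 m'
    · exact p4.1 rfl
    · exact h.mno s6c_449 o4 m'
    · exact p4.2 rfl
  refine ⟨h, fz, fx, fun c => n 1 (by decide) (f78.trans c.symm), hq, fun y a x c => by_contra fun nx => ?_⟩
  obtain ⟨g, gH, e⟩ := id c
  have cz : ∀ y ∈ Z0, g * ι y * g⁻¹ = ι y := fun y i => by
    rcases (mem_Z0 y).1 i with rfl | rfl
    exacts [by simp, fixz gH]
  have sZ := (by decide +kernel : ∀ y ∈ Q0, y * y ∈ Z0) y a
  have sq : x * x = y * y := h.inj (by rw [map_mul, ← e, conj_mul, ← map_mul, cz _ sZ])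
  rcases (mem_Z0 _).1 sZ with i | i
  · by_cases yZ : y ∈ Z0
    · exact nx (h.inj (e.symm.trans (cz y yZ)) ▸ a)
    have xv := c.symm.trans (hq y a i yZ)
    have j : cl x = 6 := (by decide +kernel : ∀ x, tst (ok4.getD (cl v0) 0) x.n = true → x ∉ Q0 → cl x = 6) x
      (o4 _ _ xv.symm.top) nx
    have k := cj_rep (ι := ι) rg_cen (x := x) (by omega)
    rw [j] at k
    obtain ⟨k, k1, k2, m, m'⟩ := h.ext2 rg_cen (by decide +kernel) (by decide +kernel) (k.symm.trans xv)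
    have c2 := m'.card
    rw [show v0 = rep 2 from rfl, cardC _ (by decide), cardC _ k2] at c2
    rcases (by decide : ∀ k < 10, 1 ≤ k → 256 ≤ [512, 512, 256, 128, 64, 32, 32, 64, 32, 32].getD k 0 → k = 1 ∨ k = 2)
      k k2 k1 c2 with rfl | rfl
    · obtain ⟨g, a, e⟩ := m'.cj.symm
      exact (show z0 ≠ v0 by decide +kernel) (h.inj ((fixz a).symm.trans e))
    · obtain ⟨g, gH, σ, q, e⟩ := m
      obtain ⟨_, -, b⟩ := h.run s6a q o4 le_top (mem_top g) (by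
        rw [List.map_cons, List.map_cons, h.inj ((q.eq _ (zC _)).trans (fixz gH))]
        exact congrArg (fun v => [z0, v]) e)
      exact Bool.noConfusion b
  · obtain ⟨p, p1, p2, p3⟩ := r4 x (sq.trans i)
    have j := c.trans ((cj_s' p3).mono rg_cen)
    rcases (or_iff_not_imp_left.2 fun u => not_not.1 fun u' => nx (p2.2 ⟨u, u'⟩) : p = 145 ∨ p = 453) with rfl | rfl
    · exact ti.elim (N i0 (by decide +kernel) (by decide +kernel)) fun k => N y a i (j.trans k)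
    · exact N y a i j

theorem pat : ∃ ι : Sh →* G, Pat ι := by
  obtain ⟨a, ⟨b, c⟩ | ⟨b, c⟩⟩ := h.st2
  · exact ⟨ι, h.pat2 (by simp [K2, a, b, c])⟩
  have t : TM (ι.comp tw) := ⟨h.inj.comp tw_inj, by
    rw [MonoidHom.range_comp, MonoidHom.range_eq_top.2 (Finite.injective_iff_surjective.1 tw_inj),
      ← MonoidHom.range_eq_map]; exact h.syl⟩
  have k : ∀ i j i' j', cl (tb TW (rep i)) = i' → cl (tb TW (rep j)) = j' → i' ≤ 9 → j' ≤ 9 → Fu ι ⊤ i' j' →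
      Fu (ι.comp tw) ⊤ i j := by
    rintro i j _ _ rfl rfl a b c
    exact ((cj_rep le_top a).trans c).trans (cj_rep le_top b).symm
  refine ⟨_, t.pat2 fun e he => ?_⟩
  simp only [K2, List.mem_cons, List.not_mem_nil, or_false] at he
  rcases he with rfl | rfl | rfl
  exacts [k _ _ 1 2 (by decide +kernel) (by decide +kernel) (by decide) (by decide) a,
    k _ _ 4 9 (by decide +kernel) (by decide +kernel) (by decide) (by decide) b,
    k _ _ 7 6 (by decide +kernel) (by decide +kernel) (by decide) (by decide) c]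
end TM

end Cfsg.Agent.HY
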