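import Cfsg.Agent.HY.FusD

/-! # The searches, part A -/

set_option autoImplicit false
set_option linter.unusedVariables false
set_option linter.unusedSectionVars false

namespace Cfsg.Agent.HY
open Cfsg Cfsg.Agent.BG Subgroup PHom Sh
open Cfsg.Agent.S3F (p2 SCl)

theorem s1_2 : Chk ok0 s0 [s0] [z0]
    [(350, [([0, 0, 1], [])]), (67, [([0, 1], []), ([0, 1, 1], [])])]
    [] (fun _ _ => false) := by decide +kernel
theorem s1_8 : Chk ok0 s0 [s0] [v0]
    [(349, [([0, 1], [])]), (398, [([0, 1], []), ([0, 2], [])])]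
    [] (fun _ _ => false) := by decide +kernel
theorem s1_32 : Chk ok0 s0 [s0] [f0]
    [(399, [([0, 1], [])]), (187, [([0, 2], []), ([0, 1], [])])]
    [] (fun _ _ => false) := by decide +kernel
theorem s1_448 : Chk ok0 s0 [s0] [e0]
    [(213, [([0, 1], [1, 0])])]
    [] (fun _ _ => false) := by decide +kernel
theorem s1e : Chk ok0 e0 [e0] [s0]
    [(256, [([0, 0, 1], [])])]
    [] (fun _ _ => false) := by decide +kernel
theorem s2_448 : Chk ok1 a0 [a0] [e0]
    [(4, [([0, 1], []), ([0, 1], [1, 0]), ([0, 0, 1], [])]), (462, [([0, 1], []), ([0, 2], [])])]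
    [[0], [2], [0, 2], [1, 1], [1, 1, 2]] (P2) := by decide +kernel
theorem s2_452 : Chk ok1 a0 [a0] [s0]
    [(6, [([0, 1], [1, 0])]), (10, [([0, 2], []), ([0, 1], []), ([0, 1, 1], [])]), (460, [([0, 1], []), ([0, 3], []), ([0, 2], [])])]
    [[3], [0, 2], [2, 2], [0, 2, 3]] (P2) := by decide +kernel
theorem s3_2 : Chk ok2 t0 [t0] [z0]
    [(487, [])]
    [[0], [1], [0, 1]] (fun E _ => bad C4 (E ++ K2)) := by decide +kernel
theorem s3_8 : Chk ok2 t0 [t0] [v0]
    [(487, [([0, 1], [])])]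
    [[1], [0, 1]] (fun E _ => bad C4 (E ++ K2)) := by decide +kernel
theorem s3_32 : Chk ok2 t0 [t0] [f0]
    [(452, [([0, 1], [])])]
    [[0], [1], [0, 1]] (fun E _ => bad C4 (E ++ K2)) := by decide +kernel
theorem s3_448 : Chk ok2 t0 [t0] [e0]
    [(485, [([0, 1], [])])]
    [[0], [1], [0, 1]] (fun E _ => bad C4 (E ++ K2)) := by decide +kernel
theorem s3a : Chk ok2 t0 [t0] [s0]
    [(2, [([0, 1], [])]), (485, [([0, 1], []), ([0, 2], []), ([0, 1, 2], [])])]
    [[1], [2], [0, 2]] (fun E ys => bad C4 (E ++ K2) || Nat.beq (ys.getD 1 0) 2) := by decide +kernel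
theorem s3b : Chk ok2 t0 [z0, t0] [z0, s0]
    [(35, [([0, 0, 1], []), ([0, 2], []), ([0, 2], [2, 0])]), (32, [([0, 3], []), ([0, 1], []), ([0, 2], [])])]
    [[0], [3]] (fun E _ => bad C4 (E ++ K2) || con E 2 3) := by decide +kernel
theorem s3c : Chk ok2 t0 [z0, t0] [z0, s0]
    [(1, [([0, 0, 1], []), ([0, 2], []), ([0, 2], [2, 0])]), (34, [([0, 3], []), ([0, 1], []), ([0, 2], [])]), (452, [([0, 4], []), ([0, 1], []), ([0, 2], []), ([0, 1, 2], [])])]
    [] (fun _ ys => tst c453 (ys.getD 2 0) || tst c453 (mN 452 (ys.getD 2 0))) := by decide +kernel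
theorem s4_2 : Chk ok3 q0 [q0] [z0]
    [(483, [([0, 1], [])])]
    [[0], [0, 1]] (fun E _ => con (E ++ K3) 4 5) := by decide +kernel
theorem s4_8 : Chk ok3 q0 [q0] [v0]
    [(483, [([0, 1], [])])]
    [[0], [0, 1]] (fun E _ => con (E ++ K3) 4 5) := by decide +kernel
theorem s4_32 : Chk ok3 q0 [q0] [f0]
    [(448, [([0, 1], [])])]
    [[0], [1]] (fun E _ => con (E ++ K3) 4 5) := by decide +kernel
theorem s4_448 : Chk ok3 q0 [q0] [e0]
    [(128, [([0, 1], [])])]
    [[0]] (fun E _ => con (E ++ K3) 4 5) := by decide +kernel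
theorem s4_452 : Chk ok3 q0 [q0] [s0]
    [(482, [([0, 1], [1, 0])]), (483, [([0, 2], []), ([0, 1], []), ([0, 1, 1], [])]), (448, [([0, 2], []), ([0, 1, 3], [])])]
    [] (fun E _ => con (E ++ K3) 4 5) := by decide +kernel
theorem s6a : Chk ok4 a0 [z0, a0] [z0, v0]
    [(66, [([0, 1, 2], [])]), (68, [([0, 1], [1, 0]), ([0, 0, 1], []), ([0, 0, 2], []), ([0, 0, 3], [])]), (398, [([0, 1], []), ([0, 2], [])])]
    [] (fun _ _ => false) := by decide +kernel
theorem s6b_1 : Chk ok4 (mk' 453) [(mk' 453)] [(mk' 1)]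
    [(247, [([0, 0], [1])])]
    [] (fun _ _ => false) := by decide +kernel
theorem s6b_9 : Chk ok4 (mk' 453) [(mk' 453)] [(mk' 9)]
    [(179, [([0, 1], [])]), (454, [([0, 2], []), ([0, 1, 2], [])])]
    [] (fun _ _ => false) := by decide +kernel
theorem s6b_33 : Chk ok4 (mk' 453) [(mk' 453)] [(mk' 33)]
    [(452, [([0, 1], [1, 0])]), (351, [([0, 1], []), ([0, 2], [])])]
    [] (fun _ _ => false) := by decide +kernel
theorem s6b_449 : Chk ok4 (mk' 453) [(mk' 453)] [(mk' 449)]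
    [(176, [([0, 1], []), ([0, 1], [1, 0])])]
    [] (fun _ _ => false) := by decide +kernel
theorem s6c_449 : Chk ok4 (mk' 449) [(mk' 449)] [(mk' 453)]
    [(139, [([0, 1], []), ([0, 1], [1, 0]), ([0, 1, 1], [])]), (8, [([0, 1], []), ([0, 2], [])])]
    [] (fun _ _ => false) := by decide +kernel
theorem s6c_129 : Chk ok4 (mk' 129) [(mk' 129)] [(mk' 453)]
    [(320, [([0, 1], []), ([0, 1], [1, 0]), ([0, 1, 1], [])]), (34, [([0, 1], []), ([0, 2], [])])]
    [] (fun _ _ => false) := by decide +kernel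

end Cfsg.Agent.HY
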