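import Cfsg.Agent.HY.P0

/-! # Local subgroups -/

set_option autoImplicit false
set_option linter.unusedVariables false
set_option linter.unusedSectionVars false

namespace Cfsg.Agent.HY
open Cfsg Cfsg.Agent.BG Subgroup PHom
open Cfsg.Agent.S3F (p2 SCl)

universe u

variable {G : Type u} [Group G] [Finite G] {ι : Sh →* G} {H K M X Y : Subgroup G} {A B : Subgroup Sh} {x y : Sh}
  {a b c d g w : G}

namespace Hz
theorem sqodd (o : PiE {2}ᶜ g) (h : g * g ∈ K) : g ∈ K := by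
  obtain ⟨k, hk⟩ : Odd (orderOf g) := Nat.not_even_iff_odd.1 fun e => o 2 p2 (even_iff_two_dvd.1 e) rfl
  have := pow_mem h (k + 1)
  rwa [← pow_two, ← pow_mul, show 2 * (k + 1) = orderOf g + 1 by omega, pow_succ, pow_orderOf_eq_one, one_mul] at this

/-- `k` maps `x` to `y` modulo `c` -/
def T (c k x y : G) : Prop := k * x * k⁻¹ = y ∨ k * x * k⁻¹ = y * c
variable {k k' s s' u v p u' v' : G}
theorem T.comp (cc : c * c = 1) (h : T c k u v) (h' : T c k' v p) (m : k' ∈ C1[c]) : T c (k' * k) u p := by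
  have e : k' * k * u * (k' * k)⁻¹ = k' * (k * u * k⁻¹) * k'⁻¹ := by group
  have f : k' * c * k'⁻¹ = c := by rw [mem_C1.1 m, mul_inv_cancel_right]
  rw [T, e]
  rcases h with h | h <;> rcases h' with h' | h' <;> rw [h] <;> try rw [← conj_mul, f]
  all_goals simp [h', mul_assoc, cc]
theorem T.mul (cc : c * c = 1) (h : T c k u v) (h' : T c k u' v') (m : v' ∈ C1[c]) : T c k (u * u') (v * v') := by
  rw [T, ← conj_mul]
  rcases h with h | h <;> rcases h' with h' | h' <;> rw [h, h']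
  · exact .inl rfl
  · exact .inr (mul_assoc _ _ _).symm
  · exact .inr (by rw [mul_assoc, ← mem_C1.1 m, mul_assoc])
  · exact .inl (by rw [mul_assoc, ← mul_assoc c, ← mem_C1.1 m, mul_assoc, cc, mul_one])
theorem T.inv (cc : c * c = 1) (h : T c k u v) (e : k * k = 1) (m : k ∈ C1[c]) : T c k v u := by
  have f : k * c * k⁻¹ = c := by rw [mem_C1.1 m, mul_inv_cancel_right]
  have i : ∀ y, k * (k * y * k⁻¹) * k⁻¹ = y := fun y => by
    rw [show k * (k * y * k⁻¹) * k⁻¹ = k * k * y * (k * k)⁻¹ by group, e]; simp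
  rcases h with h | h
  · exact .inl (h ▸ i u)
  · refine .inr ?_
    rw [← i u, h, ← conj_mul, f, mul_assoc _ c, cc, mul_one]

theorem tri (cc : c * c = 1) (ss : s * s = 1) (ss' : s' * s' = 1) (m : s ∈ C1[c]) (m' : s' ∈ C1[c]) (mp : p ∈ C1[c])
    (pv : v * p = p * v) (h1 : T c s v v) (h2 : T c s p (p * v)) (h3 : T c s' v p) (mv : v ∈ C1[c]) :
    T c ((s * s') ^ 3) v v ∧ T c ((s * s') ^ 3) p p ∧ T c (s * (s * s') ^ 8) v (p * v) := by
  have a1 := h3.comp cc h2 m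
  have a2 := (pv ▸ (h3.inv cc ss' m').mul cc h3 mp :).comp cc (h2.inv cc ss m) m
  have a3 := (h3.inv cc ss' m').comp cc h1 m
  have n := mul_mem m m'
  generalize s * s' = e at *
  have b1 : T c (e ^ 3) v v := by simpa [pow_succ, mul_assoc] using (a1.comp cc a2 n).comp cc a3 n
  have b2 : T c (e ^ 3) p p := by simpa [pow_succ, mul_assoc] using (a3.comp cc a1 n).comp cc a2 n
  refine ⟨b1, b2, ?_⟩
  have := (((a1.comp cc a2 n).comp cc b2 (pow_mem n _)).comp cc b2 (pow_mem n _)).comp cc h2 m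
  rwa [show e ^ 3 * (e ^ 3 * (e * e)) = e ^ 8 by simp only [pow_succ, mul_assoc, pow_zero, one_mul]] at this

theorem fin (ss : s * s = 1) (ss' : s' * s' = 1) (h : (s * s') ^ 3 ∈ ι.range) :
    s * (s * s') ^ 8 * (s * (s * s') ^ 8) = 1 ∧ (s * (s * (s * s') ^ 8)) ^ 3 = 1 := by
  obtain ⟨y, e⟩ := h
  have i : s * (s * s') * s⁻¹ = (s * s')⁻¹ := by
    rw [← mul_assoc, ss, one_mul, mul_inv_rev, inv_eq_of_mul_eq_one_right ss']
  constructor
  · rw [show s * (s * s') ^ 8 * (s * (s * s') ^ 8) = s * (s * s') ^ 8 * s⁻¹ * (s * s) * (s * s') ^ 8 by group,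
      ← conj_pow, i, ss, mul_one, inv_pow, inv_mul_cancel]
  · rw [← mul_assoc, ss, one_mul, ← pow_mul, mul_comm 8, pow_mul, ← e, ← map_pow, pow8, map_one]

theorem cQI : ∀ x : Sh, x * i0 = i0 * x → x * v0 = v0 * x → x * f0 = f0 * x → x * e0 = e0 * x → x * q0 = q0 * x →
    x ∈ I0 := by decide +kernel
theorem I_cen : ∀ x ∈ I0, ∀ y ∈ Q0, y * x = x * y := by decide +kernel
theorem I_cen' : ∀ x ∈ I0, ∀ y ∈ I0, y * x = x * y := by decide +kernel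
theorem cVW : ∀ x : Sh, x * v0 = v0 * x → x * f0 = f0 * x → x ∈ W0 := by decide +kernel
theorem cEE : ∀ x : Sh, x * v0 = v0 * x → x * e0 = e0 * x → x * a0 = a0 * x → x ∈ E0 := by decide +kernel
theorem jV : ∀ j ∈ W0, j * j = v0 → ∀ y ∈ Q0, y * y = 1 → y * j = j * y → y ∈ V0 := by decide +kernel
theorem VU : ∀ y ∈ V0, y ∉ U0 → ∀ y' ∈ V0, y' ∉ U0 → y⁻¹ * y' ∈ U0 ∧ y * (y⁻¹ * y') * (y⁻¹ * y') = y := by
  decide +kernel
theorem iI : ∀ y ∈ I0, y * y = z0 → y = i0 ∨ y = i0⁻¹ := by decide +kernel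
theorem kA : (∀ r ∈ Ra, ∀ y ∈ V0, r * y * r⁻¹ * y⁻¹ ∈ Z0) ∧ ∀ s : Sh, (∀ y ∈ V0, s * y * s⁻¹ * y⁻¹ ∈ Z0) → s ∈ Ra :=
  ⟨by decide +kernel, fun s h => (by decide +kernel : ∀ s : Sh, s * f0 * s⁻¹ * f0⁻¹ ∈ Z0 → s ∈ Ra) s
    (h _ (by decide +kernel))⟩
theorem kC : (∀ r ∈ Rc, ∀ y ∈ F0, r * y * r⁻¹ * y⁻¹ ∈ Z0) ∧ ∀ s : Sh, (∀ y ∈ F0, s * y * s⁻¹ * y⁻¹ ∈ Z0) → s ∈ Rc :=
  ⟨by decide +kernel, fun s h => (by decide +kernel : ∀ s : Sh, s * e0 * s⁻¹ * e0⁻¹ ∈ Z0 → s ∈ Rc) s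
    (h _ (by decide +kernel))⟩
/-- the data for the construction of a third generator -/
def Ok (A : Subgroup Sh) (s : Sh) : Prop := s * s = 1 ∧ (s * v0 * s⁻¹ = v0 ∨ s * v0 * s⁻¹ = v0 * z0) ∧
  (∀ p ∈ A, s * p * s⁻¹ ∈ A) ∧ ∀ p ∈ A, p ∉ U0 → (s * p * s⁻¹ = p * v0 ∨ s * p * s⁻¹ = p * v0 * z0) ∧ v0 * p = p * v0 ∧
    p * v0 ∉ U0 ∧ p * v0 * z0 ∉ U0 ∧ s * p * s⁻¹ ∉ [1, z0, p, p * z0]
theorem okA : Ok V0 a0 := by unfold Ok; decide +kernel
theorem okC : Ok F0 u0 := by unfold Ok; decide +kernel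
theorem c1 : ∀ r ∈ Q0, r * r = 1 → r * v0 = v0 * r → r ∉ U0 → r ∈ V0 ∨ ∃ s, s * v0 = v0 * s ∧ s * r * s⁻¹ ∈ F0 := by
  decide +kernel
theorem c2 : ∀ r ∈ V0, r ∉ U0 → ∀ m, m * m = 1 → m * v0 = v0 * m → m * r = r * m → m ∈ Q0 := by decide +kernel
theorem c3 : ∀ x ∈ F0, ∃ a ∈ [1, z0], ∃ b ∈ [1, v0], ∃ c ∈ [1, e0], x = a * b * c := by decide +kernel
theorem fixZ (m : g ∈ C1[ι z0]) : g * ι z0 * g⁻¹ = ι z0 := by rw [mem_C1.1 m, mul_inv_cancel_right]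
theorem cz (c : g ∈ C1[ι z0]) (e : x ∈ Z0) : g * ι x * g⁻¹ = ι x := by
  rcases (mem_Z0 x).1 e with rfl | rfl
  · simp
  · exact fixZ c
theorem zz : ι z0 * ι z0 = 1 := by rw [← map_mul, show z0 * z0 = 1 by decide +kernel, map_one]
theorem cmi (h : TM ι) (e : ι x * ι y = ι y * ι x) : x * y = y * x := h.inj (by rwa [map_mul, map_mul])
theorem tS {s : Sh} (e : s * x * s⁻¹ = y ∨ s * x * s⁻¹ = y * z0) : T (ι z0) (ι s) (ι x) (ι y) :=
  e.imp (fun e => by rw [← e]; simp) fun e => by rw [← map_mul ι y, ← e]; simp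
end Hz
open Hz

namespace Pat
variable (h : Pat ι) (o : O[{2}ᶜ](C1[ι z0]) = ⊥)
include h o

theorem nQ : C1[ι z0] ≤ N[Q0.map ι] := by
  have := h.normQ
  rw [o, bot_sup_eq] at this
  exact this.trans inf_le_right

theorem CQ : C[Q0.map ι] ≤ I0.map ι := by
  have l0 : C[Q0.map ι] ≤ C1[ι z0] := fun g a => mem_C1.2 (mem_C.1 a _ (mem_im (I_Q (Z_I (by decide +kernel))))).symm
  have n : C1[ι z0] ≤ N[C[Q0.map ι]] := normC (h.nQ o)
  have s := (h.sub rg_cen).inf_norm' l0 n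
  have l : ι.range ⊓ C[Q0.map ι] ≤ I0.map ι := fun _ hx => by
    obtain ⟨⟨x, rfl⟩, a⟩ := hx
    have k : ∀ y ∈ Q0, x * y = y * x := fun y b => cmi h.toTM (mem_C.1 a _ (mem_im b)).symm
    exact mem_im (cQI x (k _ (by decide +kernel)) (k _ (by decide +kernel)) (k _ (by decide +kernel))
      (k _ (by decide +kernel)) (k _ (by decide +kernel)))
  have d := (burnside p2 s (inf_le_left.trans (centS (l.trans (map_mono I_Q))))).sdprod s
  exact d.sup.ge.trans (sup_le ((O_le_of_normal _ l0 n).trans (o ▸ bot_le)) l)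

theorem nI : C1[ι z0] ≤ N[I0.map ι] := by
  have : I0.map ι = C[Q0.map ι] := le_antisymm (le_C_iff.2 (by
    rintro _ ⟨x, a, rfl⟩ _ ⟨y, b, rfl⟩
    rw [← map_mul, ← map_mul, I_cen x a y b])) (h.CQ o)
  rw [this]; exact normC (h.nQ o)

omit o in
theorem sylU : Syl 2 (Rb.map ι) (C1[ι z0] ⊓ C1[ι v0]) := by
  obtain ⟨R, s, l⟩ := syl_superset p2 (le_inf ((map_le Rb).trans rg_cen) (C_v ▸ map_C1 v0)) (map_pig (ι := ι) Rb)
  obtain ⟨g, d, l'⟩ := h.cj_sub rg_cen (s.le.trans inf_le_left) s.pi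
  obtain ⟨t, ht⟩ := l' (mem_cj_conj.2 (l (mem_im (show v0 ∈ Rb by decide +kernel))))
  refine (eq_of_card_le l ?_).symm ▸ s
  rw [← card_cj g]
  refine (card_le_of_le ((le_inf l' (show _ ≤ C1[ι t] by
    rw [ht, ← cj_C1]; exact cj_mono _ (s.le.trans inf_le_right))).trans (h.inf_C1 t).le)).trans ?_
  rw [h.card, h.card, card_Rb]
  have n : C1[t] ≠ ⊤ := fun e => by
    have := cz (inv_mem d) ((cen_iff t).1 fun y => mem_C1.1 (e ▸ mem_top y))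
    have k : ι v0 = ι t := by rw [← this, ht]; group
    exact absurd (h.inj k ▸ (cen_iff t).1 fun y => mem_C1.1 (e ▸ mem_top y)) (by decide +kernel)
  have a := C1[t].card_mul_index
  have b := mt index_eq_one.1 n
  have c := C1[t].index_ne_zero_of_finite
  rw [Sh.card] at a
  nlinarith [show 2 ≤ C1[t].index by omega]

omit o in
theorem rho : ∃ g, g * ι v0 * g⁻¹ = ι z0 ∧ g ∈ N[V0.map ι] ∧ g ∈ N[W0.map ι] := by
  obtain ⟨g, e, l⟩ := h.toZ (h.fz v0 (by decide +kernel))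
  rw [C_v] at l
  have l := (cj_mono g (map_mono W_Rb)).trans l
  have n := h.WW l
  refine ⟨g, e, n, mem_N_of fun w i => ?_⟩
  obtain ⟨s, f⟩ := l (mem_cj_conj.2 i)
  have k : ∀ y ∈ V0, s * y = y * s := fun y j => cmi h.toTM (by
    obtain ⟨w, i, rfl⟩ := i
    obtain ⟨y', j', e'⟩ := conj_mem (inv_mem n) (mem_im j)
    have : ι y = g * ι y' * g⁻¹ := by rw [e']; group
    rw [f, this, conj_mul, conj_mul, ← map_mul, ← map_mul, le_C_iff.1 ab_W w i y' (V_W j')])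
  exact f ▸ mem_im (cVW s (k _ (by decide +kernel)) (k _ (by decide +kernel)))

theorem CU : C1[ι z0] ⊓ C1[ι v0] = Rb.map ι := by
  refine (h.sylU.eq_of_pig (S3F.pig2_of fun x ⟨x1, x2⟩ od => ?_)).symm
  obtain ⟨g, e, -, nW⟩ := h.rho
  have y1 : g * x * g⁻¹ ∈ C1[ι z0] := by rw [← e, ← cj_C1]; exact mem_cj_conj.2 x2
  have y2 : g * x * g⁻¹ ∈ C1[ι i0] := sqodd (pie_conj.2 od) (by
    generalize g * x * g⁻¹ = y at *
    obtain ⟨u, i, f⟩ := conj_mem (h.nI o y1) (mem_im (show i0 ∈ I0 by decide +kernel))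
    rw [mem_C1, ← mul_inv_eq_iff_eq_mul, show y * y * ι i0 * (y * y)⁻¹ = y * (y * ι i0 * y⁻¹) * y⁻¹ by group, ← f]
    rcases iI u i (h.inj (by rw [map_mul, f, conj_mul, ← map_mul, show i0 * i0 = z0 by decide +kernel, fixZ y1]))
      with rfl | rfl
    · exact f.symm
    · rw [map_inv, ← conj_inv, ← f, map_inv, inv_inv])
  obtain ⟨j, j1, j2⟩ := conj_mem (inv_mem nW) (mem_im (show i0 ∈ W0 by decide +kernel))
  have xj : x * ι j * x⁻¹ = ι j := by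
    rw [j2, show x * (g⁻¹ * ι i0 * g⁻¹⁻¹) * x⁻¹ = g⁻¹ * (g * x * g⁻¹ * ι i0 * (g * x * g⁻¹)⁻¹) * g⁻¹⁻¹ by group,
      mem_C1.1 y2, mul_inv_cancel_right]
  have jj : j * j = v0 := h.inj (by
    rw [map_mul, j2, conj_mul, ← map_mul, show i0 * i0 = z0 by decide +kernel, ← e]; group)
  have xU : ∀ y ∈ U0, x * ι y * x⁻¹ = ι y := fun y i => by
    have a := fixZ x1
    have b : x * ι v0 * x⁻¹ = ι v0 := by rw [mem_C1.1 x2, mul_inv_cancel_right]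
    rcases (mem_U0 y).1 i with rfl | rfl | rfl | rfl
    exacts [by simp, a, b, by rw [map_mul, ← conj_mul, a, b]]
  have xV : ∀ y ∈ V0, x ∈ C1[ι y] := fun y i => by
    by_cases k : y ∈ U0
    · exact mem_C1.2 (mul_inv_eq_iff_eq_mul.1 (xU y k))
    obtain ⟨u, u1, f⟩ := conj_mem (h.nQ o x1) (mem_im (V_Q i))
    have u2 := jV j j1 jj u u1 (h.sq_of (f ▸ cjsq rfl (pow_two y ▸ ab_V.pow y i))) (cmi h.toTM (by
      rw [f, ← xj, conj_mul, conj_mul, ← map_mul, ← map_mul, le_C_iff.1 ab_W j j1 y (V_W i)]))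
    have u3 : u ∉ U0 := fun l => k (h.inj (by
      have := (xU u l).trans f
      simpa using this) ▸ l)
    obtain ⟨a, b⟩ := VU y i k u u2 u3
    refine sqodd od (mem_C1.2 (mul_inv_eq_iff_eq_mul.1 ?_))
    rw [show x * x * ι y * (x * x)⁻¹ = x * (x * ι y * x⁻¹) * x⁻¹ by group, ← f, ← mul_inv_cancel_left y u, map_mul,
      ← conj_mul, xU _ a, ← f, ← map_mul]
    rw [mul_inv_cancel_left] at b
    rw [b]
  have := h.pz (X := zpowers x) (.inl rfl) (zpowers_le.2 x1) (pig_zpowers.2 od) (cents_norm (by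
    rintro _ ⟨y, i, rfl⟩
    rw [C_zpowers]; exact mem_C1.2 (mem_C1.1 (xV y i)).symm))
  exact mem_bot.1 (o ▸ this (mem_zpowers x))

theorem CU' (a : g ∈ C1[ι z0]) (b : g ∈ C1[ι v0]) : g ∈ ι.range := map_le Rb (h.CU o ▸ mem_inf.2 ⟨a, b⟩)

theorem cAU (l : U0 ≤ A) (a : g ∈ C[A.map ι]) : ∃ s, g = ι s ∧ ∀ y ∈ A, s * y = y * s := by
  have k : ∀ y ∈ A, g ∈ C1[ι y] := fun y i => mem_C1.2 (mem_C.1 a _ (mem_im i)).symm
  obtain ⟨s, rfl⟩ := h.CU' o (k _ (l (by decide +kernel))) (k _ (l (by decide +kernel)))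
  exact ⟨s, rfl, fun y i => cmi h.toTM (mem_C1.1 (k y i))⟩

theorem CV : C[V0.map ι] ≤ W0.map ι := fun g a => by
  obtain ⟨s, rfl, k⟩ := h.cAU o U_V a
  exact mem_im (cVW s (k _ (by decide +kernel)) (k _ (by decide +kernel)))

theorem CE : C[E0.map ι] ≤ E0.map ι := fun g a => by
  obtain ⟨s, rfl, k⟩ := h.cAU o U_E a
  exact mem_im (cEE s (k _ (by decide +kernel)) (k _ (by decide +kernel)) (k _ (by decide +kernel)))

theorem NU (a : g ∈ C1[ι z0]) (b : T (ι z0) g (ι v0) (ι v0)) : g ∈ ι.range := by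
  rcases b with b | b
  · exact h.CU' o a (mem_C1.2 (mul_inv_eq_iff_eq_mul.1 b))
  · refine (mul_mem_cancel_left (mem_rg q0)).1 (h.CU' o (mul_mem (rg_cen (mem_rg _)) a)
      (mem_C1.2 (mul_inv_eq_iff_eq_mul.1 ?_)))
    rw [show ι q0 * g * ι v0 * (ι q0 * g)⁻¹ = ι q0 * (g * ι v0 * g⁻¹) * (ι q0)⁻¹ by group, b, ← map_mul, ← map_inv,
      ← map_mul, ← map_mul]
    exact congrArg ι (by decide +kernel)

theorem nk (l : U0 ≤ A) (k : (∀ r ∈ B, ∀ y ∈ A, r * y * r⁻¹ * y⁻¹ ∈ Z0) ∧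
    ∀ s : Sh, (∀ y ∈ A, s * y * s⁻¹ * y⁻¹ ∈ Z0) → s ∈ B) (a : g ∈ C1[ι z0]) (b : g ∈ N[A.map ι]) : g ∈ N[B.map ι] := by
  refine mem_N_of ?_
  rintro _ ⟨r, i, rfl⟩
  have f : ∀ y ∈ A, ∃ w ∈ Z0, g * ι r * g⁻¹ * ι y * (g * ι r * g⁻¹)⁻¹ * (ι y)⁻¹ = ι w := fun y j => by
    obtain ⟨y', j', e⟩ := conj_mem (inv_mem b) (mem_im j)
    refine ⟨_, k.1 r i y' j', ?_⟩
    rw [← cz a (k.1 r i y' j')]
    simp only [map_mul, map_inv, e]; group
  obtain ⟨s, e⟩ := h.NU o (conj_mem (normG _ a) (rg_cen (mem_rg r))) (by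
    obtain ⟨w, w1, e⟩ := f v0 (l (by decide +kernel))
    rw [mul_inv_eq_iff_eq_mul] at e
    rcases (mem_Z0 w).1 w1 with rfl | rfl
    · exact .inl (by rw [e, map_one, one_mul])
    · exact .inr (by rw [e, ← map_mul, ← map_mul, z0_cen]))
  rw [← e] at f ⊢
  refine mem_im (k.2 s fun y j => ?_)
  obtain ⟨w, w1, e⟩ := f y j
  exact (h.inj (by simpa using e) : s * y * s⁻¹ * y⁻¹ = w) ▸ w1

theorem core {s f : Sh} (l : U0 ≤ A) (k : Ok A s) (f1 : f ∈ A) (f2 : f ∉ U0) (a : g ∈ C1[ι z0]) (b : g ∈ N[A.map ι])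
    (e : g * ι f * g⁻¹ = ι v0) :
    ∃ b, b * b = 1 ∧ (ι s * b) ^ 3 = 1 ∧ b ∈ C1[ι z0] ∧ b ∈ N[A.map ι] ∧ b * ι v0 * b⁻¹ ∉ U0.map ι := by
  obtain ⟨k1, k2, k3, k4⟩ := k
  have ss : ι s * ι s = 1 := by rw [← map_mul, k1, map_one]
  have ss' : g * ι s * g⁻¹ * (g * ι s * g⁻¹) = 1 := cjsq rfl k1
  have m := rg_cen (mem_rg (ι := ι) s)
  have m' := conj_mem (normG _ a) m
  have n : ι s ∈ N[A.map ι] := mem_N_of (by
    rintro _ ⟨y, i, rfl⟩
    simpa using mem_im (ι := ι) (k3 y i))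
  have n' : g * ι s * g⁻¹ ∈ N[A.map ι] := mul_mem (mul_mem b n) (inv_mem b)
  obtain ⟨p, p1, p2⟩ := conj_mem n' (mem_im (l (show v0 ∈ U0 by decide +kernel)))
  have p3 : ι p = g * ι (s * f * s⁻¹) * g⁻¹ := by rw [p2, ← e]; simp only [map_mul, map_inv]; group
  have p4 : p ∉ U0 := fun i => (k4 f f1 f2).2.2.2.2 (by
    have u : ∀ y, ι p = g * ι y * g⁻¹ → s * f * s⁻¹ = y := fun y j => h.inj (by simpa using p3.symm.trans j)
    rcases (mem_U0 p).1 i with rfl | rfl | rfl | rfl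
    · simp [u 1 (by simp)]
    · simp [u z0 (fixZ a).symm]
    · simp [u f e.symm]
    · simp [u (f * z0) (by rw [map_mul, map_mul, ← conj_mul, e, fixZ a])])
  obtain ⟨q1, q2, q3, q4, -⟩ := k4 p p1 p4
  obtain ⟨t1, -, t3⟩ := tri zz ss ss' m m' (rg_cen (mem_rg p)) (by rw [← map_mul, q2, map_mul]) (tS k2)
    (map_mul ι p v0 ▸ tS q1) (.inl p2.symm) (rg_cen (mem_rg v0))
  obtain ⟨r1, r2⟩ := fin ss ss' (h.NU o (pow_mem (mul_mem m m') 3) t1)
  refine ⟨_, r1, r2, mul_mem m (pow_mem (mul_mem m m') 8), mul_mem n (pow_mem (mul_mem n n') 8), fun i => ?_⟩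
  rcases t3 with t | t <;> rw [t, ← map_mul] at i
  · exact q3 (h.mem_iff.1 i)
  · exact q4 (h.mem_iff.1 (map_mul ι _ z0 ▸ i))

theorem exA : ∃ b, b * b = 1 ∧ (ι a0 * b) ^ 3 = 1 ∧ b ∈ C1[ι z0] ∧ b ∈ N[Ra.map ι] ∧ b * ι v0 * b⁻¹ ∉ U0.map ι := by
  obtain ⟨g, a, e⟩ := h.hq f0 (by decide +kernel) (by decide +kernel) (by decide +kernel)
  have n := h.WW (g := g) (by
    intro y i
    obtain ⟨w, j, f⟩ := mem_cj.1 i
    obtain rfl : y = g * ι w * g⁻¹ := by rw [f]; group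
    exact h.CU' o (conj_mem (normG _ a) (rg_cen (mem_rg w))) (by
      rw [← e, ← cj_C1]
      exact mem_cj_conj.2 (map_C1 f0 (mem_im (mem_C1.2 (le_C_iff.1 ab_W w j f0 (by decide +kernel)))))))
  obtain ⟨b, b1, b2, b3, b4, b5⟩ := h.core o U_V okA (by decide +kernel) (by decide +kernel) a n e
  exact ⟨b, b1, b2, b3, h.nk o U_V kA b3 b4, b5⟩

theorem exB : ∃ c, c * c = 1 ∧ (ι q0 * c) ^ 3 = 1 ∧ c ∈ N[Rb.map ι] ∧ c * ι z0 * c⁻¹ ≠ ι z0 := by
  obtain ⟨r, e, nV, -⟩ := h.rho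
  obtain ⟨t, t1, t2⟩ := conj_mem nV (mem_im (U_V (show z0 ∈ U0 by decide +kernel)))
  obtain ⟨k, a, f⟩ := h.hq t (V_Q t1) (pow_two t ▸ ab_V.pow t t1) fun i => by
    rcases (mem_Z0 t).1 i with rfl | rfl
    · exact h.ne_one (show z0 ≠ 1 by decide +kernel) (by simpa using t2.symm)
    · exact absurd (h.inj (show ι v0 = ι z0 by simpa using e.trans t2)) (by decide +kernel)
  have g1 : k * r * ι v0 * (k * r)⁻¹ = ι z0 := by rw [← fixZ a, ← e]; group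
  have g2 : k * r * ι z0 * (k * r)⁻¹ = ι v0 := by rw [← f, t2]; group
  generalize k * r = g at g1 g2
  have ss : ι q0 * ι q0 = 1 := by rw [← map_mul, show q0 * q0 = 1 by decide +kernel, map_one]
  have ss' : g * ι q0 * g⁻¹ * (g * ι q0 * g⁻¹) = 1 := cjsq rfl (by decide +kernel)
  have m : ∀ y : G, y ∈ C1[(1 : G)] := fun y => mem_C1.2 (by simp)
  have n : ι q0 ∈ N[Rb.map ι] := rg_norm n_Rb (mem_rg _)
  have b : g ∈ N[Rb.map ι] := by rw [← h.CU o, mem_N_iff_cj, cj_inf, cj_C1, cj_C1, g1, g2, inf_comm]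
  have n' := mul_mem (mul_mem b n) (inv_mem b)
  obtain ⟨t1, t2, t3⟩ := tri (v := ι z0) (p := ι (z0 * v0)) (mul_one 1) ss ss' (m _) (m _) (m _)
    (mem_C1.1 (rg_cen (mem_rg _))).symm (.inl (fixZ (rg_cen (mem_rg _))))
    (.inl (by rw [← map_inv, ← map_mul, ← map_mul, ← map_mul]; exact congrArg ι (by decide +kernel)))
    (.inl (by
      calc _ = g * ι q0 * g⁻¹ * (g * ι v0 * g⁻¹) * (g * ι q0 * g⁻¹)⁻¹ := by rw [g1]
        _ = g * ι (q0 * v0 * q0⁻¹) * g⁻¹ := by simp only [map_mul, map_inv]; group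
        _ = _ := by
          rw [show q0 * v0 * q0⁻¹ = v0 * z0 by decide +kernel, map_mul, ← conj_mul, g1, g2, map_mul])) (m _)
  simp only [T, mul_one, or_self] at t1 t2 t3
  have c1 := mem_C1.2 (mul_inv_eq_iff_eq_mul.1 t1)
  obtain ⟨r1, r2⟩ := fin ss ss' (h.CU' o c1 (mem_C1.2 (mul_inv_eq_iff_eq_mul.1 (by
    rw [map_mul, ← conj_mul, t1] at t2; exact mul_left_cancel t2))))
  refine ⟨_, r1, r2, mul_mem n (pow_mem (mul_mem n n') 8), ?_⟩
  rw [t3, ← map_mul]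
  exact mt h.eq.1 (by decide +kernel)

theorem exC : ∃ d, d * d = 1 ∧ (ι u0 * d) ^ 3 = 1 ∧ d ∈ C1[ι z0] ∧ d ∈ N[Rc.map ι] ∧ d * ι v0 * d⁻¹ ∉ U0.map ι := by
  obtain ⟨g, a, e⟩ := h.hq e0 (by decide +kernel) (by decide +kernel) (by decide +kernel)
  obtain ⟨σ, q⟩ := h.pull (g := g) (A := E0) (by
    intro y i
    obtain ⟨w, j, f⟩ := mem_cj.1 i
    obtain rfl : y = g * ι w * g⁻¹ := by rw [f]; group
    exact h.CU' o (conj_mem (normG _ a) (rg_cen (mem_rg w))) (by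
      rw [← e, ← cj_C1]
      exact mem_cj_conj.2 (map_C1 e0 (mem_im (mem_C1.2 (le_C_iff.1 ab_E.abel w j e0 (by decide +kernel)))))))
  have mz : z0 ∈ E0 := by decide +kernel
  have mv : v0 ∈ E0 := by decide +kernel
  have me : e0 ∈ E0 := by decide +kernel
  have ma : a0 ∈ E0 := by decide +kernel
  have sz : σ z0 = z0 := h.inj ((q.eq _ mz).trans (fixZ a))
  have se : σ e0 = v0 := h.inj ((q.eq _ me).trans e)
  have r1 : σ v0 ∉ U0 := fun i => by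
    rcases (mem_U0 _).1 i with j | j | j | j
    · exact q.ne1 mv (by decide +kernel) j
    · exact q.ne mv mz (by decide +kernel) (j.trans sz.symm)
    · exact q.ne mv me (by decide +kernel) (j.trans se.symm)
    · exact q.ne mv (mul_mem me mz) (by decide +kernel) (by rw [j, q.mul _ me _ mz, se, sz])
  rcases c1 (σ v0) (h.sc v0 (by decide +kernel) _ (q.cj a mv)) (q.sq1 mv (by decide +kernel))
    (by have := q.cm mv me (by decide +kernel); rwa [se] at this) r1 with i | ⟨s, s1, s2⟩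
  · exact absurd (h.sc _ (c2 _ i r1 _ (q.sq1 ma (by decide +kernel)) (se ▸ q.cm ma me (by decide +kernel))
      (q.cm ma mv (by decide +kernel))) _ (q.cj a ma).symm) (by decide +kernel)
  have a' : ι s * g ∈ C1[ι z0] := mul_mem (rg_cen (mem_rg s)) a
  have e' : ι s * g * ι e0 * (ι s * g)⁻¹ = ι v0 := by
    rw [show ι s * g * ι e0 * (ι s * g)⁻¹ = ι s * (g * ι e0 * g⁻¹) * (ι s)⁻¹ by group, e, ← map_mul, s1, map_mul,
      mul_inv_cancel_right]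
  have f' : ι s * g * ι v0 * (ι s * g)⁻¹ = ι (s * σ v0 * s⁻¹) := by
    rw [map_mul, map_mul, map_inv, q.eq _ mv]; group
  generalize ι s * g = k at a' e' f'
  have n : k ∈ N[F0.map ι] := mem_N_of (by
    rintro _ ⟨x, i, rfl⟩
    obtain ⟨x1, i1, x2, i2, x3, i3, rfl⟩ := c3 x i
    have u : ∀ y w, k * ι w * k⁻¹ ∈ F0.map ι → y ∈ [1, w] → k * ι y * k⁻¹ ∈ F0.map ι := fun y w j l => by
      rcases List.mem_pair.1 l with rfl | rfl
      exacts [by simpa using one_mem _, j]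
    rw [map_mul, map_mul, ← conj_mul, ← conj_mul]
    exact mul_mem (mul_mem (u _ _ (by rw [fixZ a']; exact mem_im (by decide +kernel)) i1) (u _ _ (f' ▸ mem_im s2) i2))
      (u _ _ (by rw [e']; exact mem_im (by decide +kernel)) i3))
  obtain ⟨b, b1, b2, b3, b4, b5⟩ := h.core o U_F okC (by decide +kernel) (by decide +kernel) a' n e'
  exact ⟨b, b1, b2, b3, h.nk o U_F kC b3 b4, b5⟩
end Pat

end Cfsg.Agent.HY
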