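import Cfsg.Agent.HY.Hz
import Cfsg.Agent.HY.TypA

/-! # The three extra generators -/

set_option autoImplicit false
set_option linter.unusedVariables false
set_option linter.unusedSectionVars false

namespace Cfsg.Agent.HY
open Cfsg Cfsg.Agent.BG Subgroup PHom Sh
open Cfsg.Agent.S3F (p2 SCl)

universe u

variable {G : Type u} [Group G] [Finite G] {ι : Sh →* G} {H K M X Y : Subgroup G} {A B : Subgroup Sh} {x y : Sh}
  {a b c d g w : G}

namespace Typ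
theorem dq_ind {D : ℕ} {L : List Sh} (h : Dp D L) {P : Sh → Prop} (p1 : P 1) (ps : ∀ x, ∀ s ∈ L, P (x * s) → P x)
    (x : Sh) (hx : dq D x < 15) : P x := by
  induction' e : dq D x using Nat.strong_induction_on with n ih generalizing x
  rcases h x hx with rfl | ⟨s, i, j⟩
  · exact p1
  · exact ps x s i (ih _ (e ▸ j) _ (by omega) rfl)
def Hm (A : Subgroup Sh) (f : Sh → Sh) : Prop := ∀ x ∈ A, ∀ y ∈ A, f (x * y) = f x * f y
theorem hm_of {D : ℕ} {L : List Sh} {f : Sh → Sh} (h : Dp D L) (a : ∀ x ∈ A, dq D x < 15)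
    (m : ∀ g ∈ L, g ∈ A ∧ ∀ x ∈ A, f (x * g) = f x * f g) (f1 : f 1 = 1) : Hm A f := fun x i y j =>
  dq_ind h (P := fun y => y ∈ A → f (x * y) = f x * f y) (fun _ => by rw [mul_one, f1, mul_one]) (fun y s k p j => by
    have := p (mul_mem j (m s k).1)
    rw [← mul_assoc, (m s k).2 _ (mul_mem i j), (m s k).2 _ j, ← mul_assoc] at this
    exact mul_right_cancel this) y (a y j) j
theorem agree {D : ℕ} {L : List Sh} {f : Sh → Sh} (h : Dp D L) (m : Hm A f)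
    (e : ∀ s ∈ L, s ∈ A ∧ g * ι s * g⁻¹ = ι (f s)) (i : x ∈ A) (j : dq D x < 15) : g * ι x * g⁻¹ = ι (f x) :=
  dq_ind h (P := fun x => x ∈ A → g * ι x * g⁻¹ = ι (f x)) (fun i => by
    have := m 1 i 1 i
    rw [mul_one, left_eq_mul] at this
    simp [this]) (fun y s k p j => by
    have := p (mul_mem j (e s k).1)
    rw [m _ j _ (e s k).1, map_mul, map_mul, ← conj_mul, (e s k).2] at this
    exact mul_right_cancel this) x j i

structure Gd (ι : Sh →* G) (s : Sh) (A : Subgroup Sh) (b : G) : Prop where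
  sq : b * b = 1
  cb : (ι s * b) ^ 3 = 1
  n : b ∈ N[A.map ι]

theorem sw (q : b * b = 1) (e : b * ι x * b⁻¹ = ι y) : b * ι y * b⁻¹ = ι x := by
  rw [← e, inv_eq_of_mul_eq_one_right q]
  calc _ = (b * b) * ι x * (b * b) := by group
    _ = _ := by rw [q]; simp
theorem br {s x' : Sh} (q : b * b = 1) (cb : (ι s * b) ^ 3 = 1) (s2 : s * s = 1) (e : b * ι x * b⁻¹ = ι y)
    (e' : b * ι (s * x * s) * b⁻¹ = ι x') : b * ι (s * y * s) * b⁻¹ = ι (s * x' * s) := by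
  have i : ι s * ι s = 1 := by rw [← map_mul, s2, map_one]
  have k : b * ι s * b = ι s * b * ι s := by
    calc _ = (ι s * ι s) * b * ι s * b * (ι s * (b * b) * ι s) := by rw [i, q, mul_one, i]; group
      _ = ι s * (ι s * b) ^ 3 * b * ι s := by rw [pow_three]; group
      _ = _ := by rw [cb, mul_one]
  simp only [map_mul] at e' ⊢
  rw [← e, ← e', inv_eq_of_mul_eq_one_right q]
  calc _ = (b * ι s * b) * ι x * (b * ι s * b) := by group
    _ = _ := by rw [k]; group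
theorem cjg {s r : Sh} (q : b * b = 1) (cb : (ι s * b) ^ 3 = 1) (e : r * s = s * r) :
    ι r * b * (ι r)⁻¹ * (ι r * b * (ι r)⁻¹) = 1 ∧ (ι s * (ι r * b * (ι r)⁻¹)) ^ 3 = 1 := by
  refine ⟨by rw [conj_mul, q]; simp, ?_⟩
  have : ι s * (ι r * b * (ι r)⁻¹) = ι r * (ι s * b) * (ι r)⁻¹ := by
    rw [← mul_assoc, ← mul_assoc, ← map_mul, ← e, map_mul]; group
  rw [this, conj_pow, cb]; simp

theorem fin {s r : Sh} {L : List Sh} {T DK DR : ℕ} (gd : Gd ι s A b) (k : Chk A s L T DK DR) (dk : Dp DK L)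
    (s2 : s * s = 1) (rs : r * s = s * r) (rA : ∀ x ∈ A, r * x * r⁻¹ ∈ A)
    (rK : ∀ x, dq DK x < 15 → dq DK (r * x * r⁻¹) < 15) (e : ∀ g ∈ L, b * ι g * b⁻¹ = ι (tw r T g)) :
    ∃ b, Has ι s A T b := by
  obtain ⟨k1, k2, k3, k4, k5⟩ := k
  have hm := hm_of k1 k2 k3 k4
  have n : r ∈ N[A] := mem_N_of rA
  have hm' : Hm A (tw r T) := fun x i y j => by
    rw [tw, tw, tw, conj_mul, ← hm _ (conj_mem' n i) _ (conj_mem' n j)]
    congr 3; group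
  have mL : ∀ g ∈ L, g ∈ A := fun g i => (k3 g (by simp [gs, i])).1
  have f : ∀ x ∈ A, dq DK x < 15 → ι r⁻¹ * b * (ι r⁻¹)⁻¹ * ι x * (ι r⁻¹ * b * (ι r⁻¹)⁻¹)⁻¹ = ι (tb T x) := fun x i j => by
    have := agree dk hm' (fun g i => ⟨mL g i, e g i⟩) (rA x i) (rK x j)
    rw [tw, show r⁻¹ * (r * x * r⁻¹) * r = x by group] at this
    simp only [map_mul, map_inv] at this ⊢
    calc _ = (ι r)⁻¹ * (b * (ι r * ι x * (ι r)⁻¹) * b⁻¹) * ι r := by group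
      _ = _ := by rw [this]; group
  obtain ⟨q, cb⟩ := cjg (r := r⁻¹) gd.sq gd.cb (by rw [inv_mul_eq_iff_eq_mul, ← mul_assoc, rs]; group)
  refine ⟨_, q, cb, fun x i => agree k1 hm (fun g j => ⟨(k3 g j).1, ?_⟩) i (k2 x i)⟩
  simp only [gs, List.mem_append, List.mem_map] at j
  rcases j with (j | ⟨g, j, rfl⟩) | ⟨g, j, rfl⟩ <;> obtain ⟨l1, l2, l3, l4, l5⟩ := k5 g j
  · exact f g (mL g j) l3
  · rw [l1]; exact sw q (f g (mL g j) l3)
  · rw [l5]; exact br q cb s2 (f g (mL g j) l3) (f _ l4 l2)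

def Pr (ι : Sh →* G) (b : G) (m n : ℕ) : Prop := ∃ x y : Sh, x.n = m ∧ y.n = n ∧ b * ι x * b⁻¹ = ι y
theorem Pr.ev {ps : List (ℕ × ℕ)} (h : ∀ p ∈ ps, Pr ι b p.1 p.2) (w : List ℕ) : Pr ι b (e1 ps w) (e2 ps w) := by
  have o : Pr ι b 0 0 := ⟨1, 1, rfl, rfl, by simp⟩
  induction w with
  | nil => exact o
  | cons k w ih =>
    have : Pr ι b (ps.getD k (0, 0)).1 (ps.getD k (0, 0)).2 := by
      rw [List.getD_eq_getElem?_getD]
      cases e : ps[k]? with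
      | none => exact o
      | some y => exact h y (List.mem_of_getElem? e)
    obtain ⟨x, y, i, j, l⟩ := this
    obtain ⟨x', y', i', j', l'⟩ := ih
    refine ⟨x * x', y * y', ?_, ?_, by rw [map_mul, map_mul, ← conj_mul, l, l']⟩
    · change mN _ _ = mN _ (e1 ps w); rw [i, i']
    · change mN _ _ = mN _ (e2 ps w); rw [j, j']
theorem e1_app (ps : List (ℕ × ℕ)) (g y y' : ℕ) (w : List ℕ) : e1 (ps ++ [(g, y)]) w = e1 (ps ++ [(g, y')]) w := by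
  induction w with
  | nil => rfl
  | cons k w ih =>
    change mN _ (e1 _ w) = mN _ (e1 _ w)
    rw [ih]
    congr 1
    have f : ∀ l : List (ℕ × ℕ), (l.getD k (0, 0)).1 = (l.map Prod.fst).getD k 0 := fun l =>
      (List.getD_map l (0, 0) Prod.fst).symm
    rw [f, f]; simp
theorem ty_eq (h : Pat ι) (e : b * ι x * b⁻¹ = ι y) : tyN x.n = tyN y.n := by
  have o : ∀ {x y : Sh}, b * ι x * b⁻¹ = ι y → (x = 1 ↔ y = 1) := fun {x y} e =>
    ⟨fun i => h.inj (by rw [← e, i]; simp), fun i => h.inj (by simpa [i] using e)⟩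
  have s : ∀ {x y : Sh}, b * ι x * b⁻¹ = ι y → b * ι (x * x) * b⁻¹ = ι (y * y) := fun e => by
    rw [map_mul, map_mul, ← conj_mul, e]
  have c : Cj ⊤ (ι x) (ι y) := ⟨b, trivial, e⟩
  have o1 := o e
  have o2 := o (s e)
  have o4 := o (s (s e))
  have z1 := fun i => h.zc_cj (x := x) i c
  have z2 := fun i => h.zc_cj (x := y) i c.symm
  have x1 := fun i => h.xc_cj (x := x) i c
  have x2 := fun i => h.xc_cj (x := y) i c.symm
  have u : ∀ x : Sh, (x = 1 → tyN x.n = 0) ∧ (zc x → tyN x.n = 1) ∧ (xc x → tyN x.n = 2) ∧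
      (x * x ≠ 1 → x * x * (x * x) = 1 → tyN x.n = 10) ∧ (x * x * (x * x) ≠ 1 → tyN x.n = 11) := by decide +kernel
  obtain ⟨u1, u2, u3, u4, u5⟩ := u y
  rcases ty_iff x with ⟨i, j⟩ | ⟨i, j⟩ | ⟨i, j⟩ | ⟨i, i', j⟩ | ⟨i, j⟩ <;> rw [j]
  exacts [(u1 (o1.1 i)).symm, (u2 (z1 i)).symm, (u3 (x1 i)).symm, (u4 (mt o2.2 i) (o4.1 i')).symm,
    (u5 (mt o4.2 i)).symm]
theorem Pr.ty (h : Pat ι) {m n : ℕ} (p : Pr ι b m n) : tyN m = tyN n := by
  obtain ⟨x, y, rfl, rfl, e⟩ := p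
  exact ty_eq h e

theorem sr_cons (s c M : ℕ) (P : List (ℕ × ℕ) → Bool) (l : Lv) (L : List Lv) (ps : List (ℕ × ℕ)) :
    sr s c M P (l :: L) ps = (Nat.beq (e1 (ps ++ [(l.g, 0)]) l.w) (mN (mN s l.g) s) &&
    allN (fun y => bif tst M y && Nat.beq (tyN l.g) (tyN y) then
      frc (mN (mN s (e2 (ps ++ [(l.g, y)]) l.w)) s) fun p => frc (mN (mN s y) s) fun p' =>
        bif ok c l (ps ++ [(l.g, y), (y, l.g), (p', p), (p, p')]) then
          sr s c M P L (ps ++ [(l.g, y), (y, l.g), (p', p), (p, p')]) else true else true) 512) := rfl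
theorem srch (h : Pat ι) {s : Sh} {c M : ℕ} {P : List (ℕ × ℕ) → Bool} (gd : Gd ι s A b) (s2 : s * s = 1)
    (hM : ∀ x ∈ A, tst M x.n = true) (L : List Lv) (hL : ∀ l ∈ L, l.g < 512 ∧ mk' l.g ∈ A)
    (hc : ∀ l ∈ L, ∀ n, Pr ι b c n → tst l.cm n = false) (ps : List (ℕ × ℕ)) (hp : ∀ p ∈ ps, Pr ι b p.1 p.2)
    (e : sr s.n c M P L ps = true) : ∃ ps, (∀ p ∈ ps, Pr ι b p.1 p.2) ∧ P ps = true := by
  induction L generalizing ps with
  | nil => exact ⟨ps, hp, e⟩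
  | cons l L ih =>
    obtain ⟨a1, a2⟩ := hL l (by simp)
    have k : (mk' l.g).n = l.g := Nat.mod_eq_of_lt a1
    obtain ⟨y, i, j⟩ := conj_mem gd.n (mem_im (ι := ι) a2)
    replace j := j.symm
    rw [sr_cons] at e
    obtain ⟨e0, e⟩ := Bool.and_eq_true_iff.1 e
    have p0 : Pr ι b l.g y.n := ⟨_, _, k, rfl, j⟩
    obtain ⟨x', y', i1, i2, i3⟩ := Pr.ev (ps := ps ++ [(l.g, y.n)]) (by
      intro p a
      rcases List.mem_append.1 a with a | a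
      exacts [hp p a, List.mem_singleton.1 a ▸ p0]) l.w
    obtain rfl : x' = s * mk' l.g * s := Sh.ext (by
      rw [i1, e1_app _ _ _ 0, Nat.eq_of_beq_eq_true e0]
      change _ = mN (mN _ (mk' l.g).n) _
      rw [k])
    have b1 := br gd.sq gd.cb s2 j i3
    have hp' : ∀ p ∈ ps ++ [(l.g, y.n), (y.n, l.g), ((s * y * s).n, (s * y' * s).n), ((s * y' * s).n, (s * y * s).n)],
        Pr ι b p.1 p.2 := fun p a => by
      simp only [List.mem_append, List.mem_cons, List.not_mem_nil, or_false] at a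
      rcases a with a | rfl | rfl | rfl | rfl
      exacts [hp p a, p0, ⟨_, _, rfl, k, sw gd.sq j⟩, ⟨_, _, rfl, rfl, b1⟩, ⟨_, _, rfl, rfl, sw gd.sq b1⟩]
    refine ih (fun m a => hL m (List.mem_cons_of_mem _ a)) (fun m a => hc m (List.mem_cons_of_mem _ a)) _ hp' ?_
    have t := (allN_iff _ _).1 e y.n y.lt
    have o : ok c l (ps ++ [(l.g, y.n), (y.n, l.g), ((s * y * s).n, (s * y' * s).n), ((s * y' * s).n, (s * y * s).n)])
        = true := by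
      rw [ok, Bool.and_eq_true, List.all_eq_true]
      refine ⟨fun w _ => by rw [(Pr.ev hp' w).ty h, Nat.beq_refl], ?_⟩
      rw [Bool.not_eq_true', Bool.and_eq_false_imp]
      exact fun u => hc l (by simp) _ (Nat.eq_of_beq_eq_true u ▸ Pr.ev hp' l.cw)
    simp only [frc_eq] at t
    rw [hM y i, p0.ty h, Nat.beq_refl, ← i2] at t
    change cond (ok c l (ps ++ [(l.g, y.n), (y.n, l.g), ((s * y * s).n, (s * y' * s).n),
      ((s * y' * s).n, (s * y * s).n)])) _ true = true at t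
    rw [o] at t
    exact t

theorem two (h : Pat ι) {s : Sh} {c M T T' DK D D' : ℕ} {C : List ℕ} {L : List Lv} {ps : List (ℕ × ℕ)}
    (gd : Gd ι s A b) (hM : ∀ x ∈ A, tst M x.n = true) (k : Chc A s L C DK)
    (k0 : Chk A s (L.map fun l => mk' l.g) T DK D) (k1 : Chk A s (L.map fun l => mk' l.g) T' DK D')
    (hc : ∀ l ∈ L, ∀ n, Pr ι b c n → tst l.cm n = false) (hp : ∀ p ∈ ps, Pr ι b p.1 p.2)
    (e : sr s.n c M (lf C T T' L) L ps = true) : (∃ b, Has ι s A T b) ∨ ∃ b, Has ι s A T' b := by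
  obtain ⟨c1, c2, c3, c4⟩ := k
  obtain ⟨ps, hp, e⟩ := srch h gd c2 hM L c3 hc ps hp e
  simp only [lf, List.any_eq_true, List.all_eq_true, Bool.and_eq_true, Nat.beq_eq] at e
  obtain ⟨r, i, S, j, e⟩ := e
  obtain ⟨d1, d2, d3⟩ := c4 r i
  have f : ∀ g ∈ L.map fun l => mk' l.g, b * ι g * b⁻¹ = ι (tw (mk' r) S g) := fun g a => by
    obtain ⟨l, a', rfl⟩ := List.mem_map.1 a
    obtain ⟨p, u, u1, u2⟩ := e l a'
    obtain ⟨x, y, v1, v2, v3⟩ := hp p u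
    rw [← mk_n x, v1, u1, Sh.ext (v2.trans u2)] at v3
    exact v3
  simp only [List.mem_cons, List.not_mem_nil, or_false] at j
  rcases j with rfl | rfl
  exacts [.inl (fin gd k0 c1 c2 d1 d2 d3 f), .inr (fin gd k1 c1 c2 d1 d2 d3 f)]

theorem cU (h : Pat ι) (n : b * ι v0 * b⁻¹ ∉ U0.map ι) {m : ℕ} (hm : m = 0 ∨ m = 1285) (k : ℕ) (p : Pr ι b 8 k) :
    tst m k = false := by
  obtain ⟨x, y, i, rfl, e⟩ := p
  obtain rfl : x = v0 := Sh.ext i
  rcases hm with rfl | rfl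
  · simp only [tst, Nat.shiftRight_eq, Nat.zero_shiftRight]; rfl
  · exact Bool.eq_false_iff.2 fun j => n (e ▸ mem_im j)
theorem pz (n : b ∈ C1[ι z0]) : ∀ p ∈ [(2, 2)], Pr ι b p.1 p.2 := fun p a =>
  List.mem_singleton.1 a ▸ ⟨z0, z0, rfl, rfl, by rw [mem_C1.1 n, mul_inv_cancel_right]⟩

/-- the automorphism given by a table -/
def aut {T : ℕ} (w : Tw T) : Sh ≃* Sh :=
  ⟨⟨tb T, tb T, w.1, w.1⟩, fun x y => by
    have o : tb T 1 = 1 := w.2.2.1 1 (by simp)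
    refine closure_induction (p := fun y _ => ∀ x, tb T (x * y) = tb T x * tb T y) (fun s a => w.2.1 s (by simpa using a))
      (fun x => by rw [mul_one, o, mul_one]) (fun s t _ _ a b x => by rw [← mul_assoc, b, a, b, mul_assoc])
      (fun s _ a x => ?_) (gen_top.ge (mem_top y)) x
    have e := a s⁻¹
    rw [inv_mul_cancel, o] at e
    rw [eq_inv_of_mul_eq_one_left e.symm, eq_mul_inv_iff_mul_eq, ← a, inv_mul_cancel_right]⟩
theorem pat (h : Pat ι) {T : ℕ} (w : Tw T) : Pat (ι.comp (aut w).toMonoidHom) := by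
  have e : ∀ x, ι.comp (aut w).toMonoidHom x = ι (tb T x) := fun _ => rfl
  have z := w.2.2.1 z0 (by simp)
  have v := w.2.2.1 v0 (by simp)
  have t := w.2.2.1 t0 (by simp)
  refine ⟨⟨h.inj.comp (aut w).injective, by
    rw [MonoidHom.range_comp, MonoidHom.range_eq_top.2 (aut w).surjective, ← MonoidHom.range_eq_map]; exact h.syl⟩,
    fun x a => ?_, fun x a => ?_, ?_, fun x a b c => ?_, fun y a x b => ?_⟩ <;> simp only [e, z, v, t] at *
  · exact h.fz _ ((w.2.2.2 x).1 a)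
  · exact h.fx _ ((w.2.2.2 x).2.1 a)
  · exact h.ne
  · refine h.hq _ ((w.2.2.2 x).2.2.1.1 a) ?_ (mt (w.2.2.2 x).2.2.2 c)
    exact ((aut w).map_mul x x).symm.trans (by rw [b]; exact map_one _)
  · exact (w.2.2.2 x).2.2.1.2 (h.sc _ ((w.2.2.2 y).2.2.1.1 a) _ b)
theorem mv {α T T' : ℕ} {s r : Sh} (w : Tw α) (ws : tb α s = s) (m : Mv A s r α T T') (h : ∃ b, Has ι s A T b) :
    ∃ b, Has (ι.comp (aut w).toMonoidHom) s A T' b := by
  obtain ⟨b, q, cb, ac⟩ := h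
  have e : ∀ x, ι.comp (aut w).toMonoidHom x = ι (tb α x) := fun _ => rfl
  obtain ⟨q', cb'⟩ := cjg q cb m.1
  refine ⟨_, q', by rwa [e, ws], fun x i => ?_⟩
  rw [e, e, ← (m.2 x i).2, tw, map_mul, map_mul, ← ac _ (m.2 x i).1]
  simp only [map_mul, map_inv]; group
theorem ob {T : ℕ} (w : Tw T) (o : O[{2}ᶜ](C1[ι z0]) = ⊥) : O[{2}ᶜ](C1[ι.comp (aut w).toMonoidHom z0]) = ⊥ := by
  change O[{2}ᶜ](C1[ι (tb T z0)]) = ⊥
  rwa [w.2.2.1 z0 (by simp)]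
end Typ
open Typ

theorem Pat.typ (h : Pat ι) (o : O[{2}ᶜ](C1[ι z0]) = ⊥) : ∃ ι : Sh →* G, Pat ι ∧ O[{2}ᶜ](C1[ι z0]) = ⊥ ∧
    (∃ b, Has ι a0 Ra BA b) ∧ (∃ d, Has ι u0 Rc BC d) ∧ ((∃ c, Has ι q0 Rb BB c) ∨ ∃ c, Has ι q0 Rb BB' c) := by
  have B : ∀ ι : Sh →* G, Pat ι → O[{2}ᶜ](C1[ι z0]) = ⊥ → (∃ c, Has ι q0 Rb BB c) ∨ ∃ c, Has ι q0 Rb BB' c :=
    fun ι h o => by
    obtain ⟨c, c1, c2, c3, c4⟩ := h.exB o
    refine Typ.two h ⟨c1, c2, c3⟩ (fun x a => a) Typ.cB kB0 kB1 (fun l a n p => ?_) (by simp) Typ.sB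
    obtain ⟨x, y, i, rfl, e⟩ := p
    obtain rfl : x = z0 := Sh.ext i
    exact (by decide +kernel : ∀ l ∈ LB, ∀ y : Sh, y ≠ z0 → tst l.cm y.n = false) l a y fun j => c4 (j ▸ e)
  have C : ∀ ι : Sh →* G, Pat ι → O[{2}ᶜ](C1[ι z0]) = ⊥ → (∃ b, Has ι a0 Ra BA b) → ∃ ι : Sh →* G, Pat ι ∧
      O[{2}ᶜ](C1[ι z0]) = ⊥ ∧ (∃ b, Has ι a0 Ra BA b) ∧ (∃ d, Has ι u0 Rc BC d) ∧
      ((∃ c, Has ι q0 Rb BB c) ∨ ∃ c, Has ι q0 Rb BB' c) := fun ι h o a => by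
    obtain ⟨d, d1, d2, d3, d4, d5⟩ := h.exC o
    rcases Typ.two h ⟨d1, d2, d4⟩ (fun x a => a) Typ.cC kC0 kC1 (fun l a => Typ.cU h d5
      ((by decide : ∀ l ∈ LC, l.cm = 0 ∨ l.cm = 1285) l a)) (Typ.pz d3) Typ.sC with k | k
    · exact ⟨ι, h, o, a, k, B ι h o⟩
    · exact ⟨_, Typ.pat h w2, Typ.ob w2 o, Typ.mv w2 (w2.2.2.1 _ (by simp)) m2 a, Typ.mv w2 (w2.2.2.1 _ (by simp)) m3 k,
        B _ (Typ.pat h w2) (Typ.ob w2 o)⟩
  obtain ⟨b, b1, b2, b3, b4, b5⟩ := h.exA o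
  rcases Typ.two h ⟨b1, b2, b4⟩ (fun x a => a) Typ.cA kA0 kA1 (fun l a => Typ.cU h b5
    ((by decide : ∀ l ∈ LA, l.cm = 0 ∨ l.cm = 1285) l a)) (Typ.pz b3) Typ.sA with k | k
  · exact C ι h o k
  · exact C _ (Typ.pat h w1) (Typ.ob w1 o) (Typ.mv w1 (w1.2.2.1 _ (by simp)) m1 k)

end Cfsg.Agent.HY
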