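import Cfsg.Agent.HY.Rel
import Cfsg.Agent.HY.Fus
import Cfsg.Agent.HY.Typ

/-! # Simple groups with a Sylow `2`-subgroup of type `HS` -/

set_option autoImplicit false
set_option linter.unusedVariables false
set_option linter.unusedSectionVars false

namespace Cfsg.Agent.HY
open Cfsg Cfsg.Agent.BG Subgroup PHom
open Cfsg.Agent.S3F (p2 SCl)

universe u

variable {G : Type u} [Group G] [Finite G] {ι : Sh →* G} {H K M X Y : Subgroup G} {A B : Subgroup Sh} {x y : Sh}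
  {a b c d g w : G}

theorem main [IsSimpleGroup G] (S : Sylow 2 G) (P : Sylow 2 ↥Cfsg.Spor.HS)
    (hS : Nonempty (↥(S : Subgroup G) ≃* ↥(P : Subgroup ↥Cfsg.Spor.HS))) : Cfsg.Spor.IsoHS G := by
  obtain ⟨ι, h⟩ := exists_iota S P hS
  obtain ⟨ι, h⟩ := h.pat
  obtain ⟨ι, h, o, ⟨b, hb⟩, ⟨d, hd⟩, ⟨c, hc⟩ | ⟨c, hc⟩⟩ := h.typ h.O_bot
  · exact iso_HS (h.sat o hb hc hd) rfl (h.ne_one (show t0 ≠ 1 by decide +kernel)) (h.gen o hb hc hd)
  · exact (h.mixed o hb hc).elim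

end Cfsg.Agent.HY
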