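import Cfsg.Agent.HY.Def
import Cfsg.Agent.HJ.TC
import Cfsg.Agent.Spor.MatG
import Cfsg.Agent.Spor.HYs.Main
import Cfsg.Agent.Spor.HYh.Main
import Cfsg.Agent.Spor.HYz.Main
import Cfsg.Agent.Spor.HYg.Main
import Cfsg.Agent.Spor.HSC

/-! # The model and the presentation -/

set_option autoImplicit false
set_option linter.unusedVariables false
set_option linter.unusedSectionVars false
set_option maxRecDepth 100000

namespace Cfsg.Agent.HY
open Cfsg Cfsg.Agent.BG Subgroup PHom
open Cfsg.Agent.S3F (p2 SCl)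

universe u

variable {G : Type u} [Group G] [Finite G] {ι : Sh →* G} {H K M X Y : Subgroup G} {A B : Subgroup Sh} {x y : Sh}
  {a b c d g w : G}

/-- the relators in the generators `a q t b c d` (atoms `0 2 4 6 8 10`) -/
def RG : List (List ℕ) := [[0, 0], [2, 2], [4, 4], [6, 6], [8, 8], [10, 10]] ++ Spor.HYg.RL

section model
open Cfsg.Agent.Spor

theorem ev_br {G : Type*} [Group G] (a : ℕ → G) (l : List ℕ) : Spor.ev a l = HJ.ev a l := by
  induction l with
  | nil => rfl
  | cons y l ih => rw [Spor.ev_cons, HJ.ev_cons, ih]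
theorem atm_br {G : Type*} [Group G] (gs : List G) : Spor.atm gs.length (gs.getD · 1) = HJ.atm gs := by
  funext y
  rw [Spor.atm_def, HJ.atm]
  split_ifs with h1 h2 h2
  · rfl
  · rfl
  · rw [List.getD_eq_default _ _ (by omega)]
  · rw [List.getD_eq_default _ _ (by omega), inv_one]
theorem gsub_br {G : Type*} [Group G] (gs : List G) : Spor.gsub gs.length (gs.getD · 1) = HJ.clo gs :=
  le_antisymm (Spor.gsub_le fun j hj => HJ.mem_clo (by
    rw [List.getD_eq_getElem _ _ hj]; exact List.getElem_mem hj)) (HJ.clo_le fun x hx => by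
    obtain ⟨j, hj, rfl⟩ := List.getElem_of_mem hx
    rw [← List.getD_eq_getElem _ 1 hj]
    exact Spor.mem_gsub (gs.getD · 1) hj)
theorem pres_br {G : Type*} [Group G] {gs : List G} {k : ℕ} {RL RL' : List (List ℕ)} (h : HJ.Sat RL gs)
    (h1 : ∀ j < k, [2 * j, 2 * j] ∈ RL) (h2 : ∀ l ∈ RL', l ∈ RL) : Spor.Pres gs.length k RL' (gs.getD · 1) :=
  ⟨fun j hj _ => by simpa [HJ.atm] using h _ (h1 j hj), fun l hl => by
    rw [atm_br, ev_br]; exact h l (h2 l hl)⟩

theorem boundH : Bound 6 6 HYg.RL (5775 * (15 * 512)) :=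
  HYg.cert.bound (HYh.cert.bound HYs.cert.bound_nil (H := [([], 13, false), ([], 13, false), ([], 13, false), ([], 0, true), ([], 1, true), ([], 2, true), ([], 3, true)]) (by decide +kernel))
    (H := [([], 20, false), ([], 20, false), ([], 20, false), ([], 20, false), ([], 20, false), ([], 0, true), ([], 1, true), ([], 2, true), ([], 3, true), ([], 4, true), ([], 6, true), ([], 7, true), ([], 8, true), ([], 9, true), ([], 12, true), ([], 13, true), ([], 14, true), ([], 19, true)]) (by decide +kernel)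

def WD : List (List ℕ) :=
  [[4], [0, 2, 8, 10, 4, 10, 6, 8, 10, 4, 8, 10, 8, 4, 0, 8], [0, 10, 0, 10], [2, 0, 6, 2, 6, 10, 2], [2, 0, 4, 0, 2, 4]]

theorem presW : Pres 5 5 HSpa.RL (wv 6 HYg.fP WD) :=
  Pres.of_subList (WD := WD) HYg.hiv (consAll_sound HYg.hiv HYg.xrel
    (H := [([], 19, false), ([], 1, true), ([], 2, true), ([], 3, true), ([], 4, true), ([], 5, true), ([], 6, true), ([], 7, true), ([], 8, true), ([], 9, true), ([], 10, true), ([], 11, true), ([], 12, true), ([], 13, true), ([], 14, true), ([], 19, false), ([], 16, true), ([], 17, true), ([], 18, true)]) (by decide +kernel))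

theorem neZ : ev (atm 6 HYg.fP) [0, 4, 0, 4, 0, 4, 0, 4] ≠ 1 := fun e => by
  have h := HYz.cert.bound_nil _ _ ((show HYg.RL ++ [[0, 4, 0, 4, 0, 4, 0, 4]] = HYz.RL by decide +kernel) ▸
    HYg.cert.pres.append (by simpa using e))
  have := (HYg.cert.self.index ▸ index_dvd_card _).trans h
  omega

theorem neT : ev (atm 6 HYg.fP) [4] ≠ 1 := fun e => neZ <| by
  have := HYg.cert.pres.sq 0 (by omega) (by omega)
  generalize HYg.fP = f at *
  simp [atm_def] at e ⊢
  simp [e, this]

theorem isoP : Nonempty (Cfsg.Spor.HS ≃* gsub 6 HYg.fP) := by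
  obtain ⟨e0⟩ := HSC.iso
  obtain ⟨e, -⟩ := iso_of_simple HSpa.bound (by norm_num) HSpa.cert.pres presW HSpa.cardP.symm.dvd HSpa.simpleP
    (wv_ne_one (by omega) neT rfl)
  have h := boundH _ _ HYg.cert.pres
  have : Finite (gsub 6 HYg.fP) := Nat.finite_of_card_ne_zero (ne_zero_of_dvd_ne_zero (by norm_num) h)
  exact ⟨(e0.symm.trans e).trans (MulEquiv.subgroupCongr (eq_of_le_of_card_ge
    (wsub_le_gsub 6 HYg.fP WD) ((Nat.le_of_dvd (by norm_num) h).trans
      (HSpa.cardP.symm.trans (Nat.card_congr e.toEquiv)).le)))⟩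

theorem card_HS : Nat.card Cfsg.Spor.HS = 44352000 :=
  HSC.iso.elim fun e => (Nat.card_congr e.toEquiv).symm.trans HSpa.cardP

def fS (j : ℕ) : Sh := [a0, q0, t0].getD j 1

theorem exists_HS : ∃ ι : Sh →* Cfsg.Spor.HS, Function.Injective ι := by
  obtain ⟨e⟩ := isoP
  have t : gsub 3 fS = ⊤ := top_le_iff.1 (top_le_of (mem_gsub fS (j := 0) (by omega)) (mem_gsub fS (j := 1) (by omega))
    (mem_gsub fS (j := 2) (by omega)))
  obtain ⟨ψ, hψ⟩ := HYs.cert.bound_nil.exists_hom (by norm_num) (f := fS) ⟨by decide +kernel, by decide +kernel⟩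
    (HYg.cert.pres.lift.subst (WD := [[0], [2], [4]]) (H := [([], 20, false), ([], 20, false), ([], 20, false), ([], 0, true), ([], 1, true), ([], 2, true), ([], 3, true)]) (by decide +kernel))
    (by rw [t, card_top, Sh.card])
  let φ := ψ.comp ((MonoidHom.id Sh).codRestrict _ fun x => t ▸ mem_top x)
  have hφ : ∀ j < 3, φ (fS j) = _ := fun j hj =>
    (congrArg ψ (Subtype.ext (lift_coe (mem_gsub fS hj)).symm)).trans (hψ j hj)
  refine ⟨e.symm.toMonoidHom.comp φ, e.symm.injective.comp ((MonoidHom.ker_eq_bot_iff φ).1 (by_contra fun n => ?_))⟩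
  obtain ⟨⟨x, i, j⟩, k⟩ := ne_bot_iff_exists_ne_one.1 (Nil.meet_C (pig_of_card_pow (A := ⊤) (n := 9) p2
    (by rw [card_top, Sh.card]; rfl)).nil le_top (by rw [normalizer_eq_top]) n)
  obtain rfl := ((mem_Z0 x).1 ((cen_iff x).1 fun y => mem_C.1 j y trivial)).resolve_left fun q => k (Subtype.ext q)
  replace i : φ z0 = 1 := i
  rw [show z0 = ev (atm 3 fS) [0, 4, 0, 4, 0, 4, 0, 4] by decide +kernel, ev_atm_map' hφ,
    ← ev_subW (WD := [[0], [2], [4]]) HYg.cert.pres.lift.ivOk] at i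
  exact neZ ((ev_atm_map' (lift_gsub HYg.fP) _).symm.trans ((congrArg _ i).trans (map_one _)))

end model

theorem exists_iota (S : Sylow 2 G) (P : Sylow 2 ↥Cfsg.Spor.HS)
    (hS : Nonempty (↥(S : Subgroup G) ≃* ↥(P : Subgroup ↥Cfsg.Spor.HS))) : ∃ ι : Sh →* G, TM ι := by
  obtain ⟨e⟩ := hS
  obtain ⟨ι, i⟩ := exists_HS
  have c := card_HS
  haveI : Finite Cfsg.Spor.HS := Nat.finite_of_card_ne_zero (by rw [c]; decide)
  let P' : Sylow 2 Cfsg.Spor.HS := Sylow.ofCard ι.range (by
    rw [← Nat.card_congr (MonoidHom.ofInjective i).toEquiv, Sh.card, c,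
      show 44352000 = 2 ^ 9 * 86625 from rfl, Nat.factorization_mul (by decide) (by decide), Nat.factorization_pow]
    simp [Nat.factorization_eq_zero_of_not_dvd (show ¬ 2 ∣ 86625 by decide), Nat.prime_two.factorization])
  let E : Sh ≃* S := ((MonoidHom.ofInjective i).trans (P'.equiv P)).trans e.symm
  refine ⟨(S : Subgroup G).subtype.comp E.toMonoidHom, (subtype_injective _).comp E.injective, ?_⟩
  rw [← MonoidHom.map_range, MonoidHom.range_eq_top.2 E.surjective, ← MonoidHom.range_eq_map, range_subtype]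
  exact syl_top p2 S

open Cfsg.Agent.Spor in
theorem iso_HS {gs : List G} (h : HJ.Sat RG gs) (hl : gs.length = 6) (h3 : gs.getD 2 1 ≠ 1) (h4 : ∀ x, x ∈ HJ.clo gs) :
    Cfsg.Spor.IsoHS G := by
  obtain ⟨e⟩ := isoP
  obtain ⟨e0⟩ := HSC.iso
  have := HSpa.simpleP
  let φ : G →* Shrink.{0} G := (Shrink.mulEquiv.symm : G ≃* Shrink.{0} G)
  have hφ : Function.Injective φ := (Shrink.mulEquiv.symm : G ≃* Shrink.{0} G).injective
  have h5 := pres_br (k := 6) (RL' := HYg.RL) h (by decide +kernel) fun l i => List.mem_append_right _ i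
  have h6 := gsub_br gs
  rw [hl] at h5 h6
  obtain ⟨e', -⟩ := iso_of_simple boundH (by norm_num) HYg.cert.pres (h5.map φ)
    (by rw [← Nat.card_congr e.toEquiv, card_HS]) (e0.trans e).symm.isSimpleGroup (w := [4])
    (by simpa [Spor.atm_def, map_eq_one_iff φ hφ] using h3)
  exact ⟨(e.trans (e'.trans ((MulEquiv.subgroupCongr (gsub_map φ 6 _).symm).trans
    ((equivMapOfInjective _ φ hφ).symm.trans ((MulEquiv.subgroupCongr
      (h6.trans ((eq_top_iff' _).mpr h4))).trans topEquiv))))).symm⟩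

end Cfsg.Agent.HY
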