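import Cfsg.Agent.HY.Cz

/-! # Odd order subgroups of `C(z)` -/

set_option autoImplicit false
set_option linter.unusedVariables false
set_option linter.unusedSectionVars false

namespace Cfsg.Agent.HY
open Cfsg Cfsg.Agent.BG Subgroup PHom
open Cfsg.Agent.S3F (p2)

universe u

variable {G : Type u} [Group G] [Finite G] {ι : Sh →* G} {H K M X Y : Subgroup G} {A B : Subgroup Sh} {x y : Sh}
  {a b c d g w : G}

namespace P0
theorem d1 : ∀ y : Sh, y * y ∈ V0 ∨ y * y * (y * y) ≠ 1 ∨ (Sh.all.filter (· ∈ C1[y])).length < 64 := by decide +kernel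
theorem d2 : ∀ v ∈ V0, ∃ w ∈ W0, w * w = v := by decide +kernel
theorem d3 : ∀ t : Sh, (∀ x ∈ [v0, f0, e0, q0], x * t = t * x) → t ∈ I0 := by decide +kernel
theorem d4 : ∀ t ∈ Q0, (∀ x ∈ [v0, f0], x * t = t * x) → t ∈ V0 ∨ t * i0 ∈ V0 := by decide +kernel
theorem d5 : ∀ t ∈ Q0, (∀ x ∈ [v0, e0], x * t = t * x) → t ∈ F0 ∨ t * i0 ∈ F0 := by decide +kernel
theorem d6 : ∀ x ∈ Q0, ∀ y ∈ Q0, x * y * x⁻¹ * y⁻¹ ∈ Z0 := by decide +kernel
theorem d7 : ∀ x ∈ I0, x ∈ Z0 ∨ ∀ y ∈ I0, y * y = z0 → y * x⁻¹ ∈ Z0 := by decide +kernel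
theorem d8 : ∀ x ∈ I0, (x ∈ Z0 ∨ x * x = z0) ∧ ∀ y ∈ Q0, x * y = y * x := by decide +kernel
theorem CQ_I (h : TM ι) : ι.range ⊓ C[Q0.map ι] ≤ I0.map ι := by
  rintro _ ⟨⟨t, rfl⟩, b⟩
  exact mem_im (d3 t fun x a => h.inj (by
    rw [map_mul, map_mul]; exact mem_C.1 b _ (mem_im ((by decide +kernel : ∀ x ∈ [v0, f0, e0, q0], x ∈ Q0) x a))))
theorem I_CQ : I0.map ι ≤ C[Q0.map ι] := by
  rintro _ ⟨x, a, rfl⟩
  exact mem_C.2 (by rintro _ ⟨y, b, rfl⟩; rw [← map_mul, ← map_mul, (d8 x a).2 y b])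
end P0
open P0

/-- `W` is weakly closed -/
theorem TM.WW (h : TM ι) (l : BG.cj g (W0.map ι) ≤ ι.range) : g ∈ N[V0.map ι] := mem_N_of (by
  rintro _ ⟨v, a, rfl⟩
  obtain ⟨w, b, rfl⟩ := d2 v a
  obtain ⟨y, e⟩ := l (mem_cj_conj.2 (mem_im b))
  have e2 : ι (y * y) = g * ι (w * w) * g⁻¹ := by rw [map_mul, map_mul, e, conj_mul]
  rcases d1 y with i | i | i
  · exact e2 ▸ mem_im i
  · exact (i (h.sq_of (cjsq e2.symm ((pow_two _).symm.trans (ab_V.pow _ a))))).elim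
  have := card_le_of_le (show BG.cj g (W0.map ι) ≤ C1[y].map ι from h.inf_C1 y ▸ le_inf l (by
    rw [e, ← cj_C1]; exact cj_mono _ ((map_mono (ab_W.trans (C_le_C1 b))).trans (map_C1 w))))
  rw [card_cj, h.card, h.card, card_W0, card_sub] at this
  omega)

/-- odd order subgroups centralising `Q` -/
theorem Pat.cQ (h : Pat ι) (l : X ≤ C[Q0.map ι]) (od : PiG {2}ᶜ X) : X ≤ O[{2}ᶜ](C1[ι z0]) := by
  have lH : C[Q0.map ι] ≤ C1[ι z0] := C_le_C1 (mem_im (by decide +kernel))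
  have s := (h.sub (rg_norm n_Q)).inf_norm' (cents_norm le_rfl) (normC le_rfl)
  refine ((burnside p2 s (inf_le_left.trans (centS ((CQ_I h.toTM).trans (map_mono I_Q))))).le_O l od).trans
    (le_sup_right.trans (le_O (sup_le (O_le _ _) ((O_le _ _).trans lH)) (h.normQ.trans (sup_le (normsG le_sup_left)
      (normY (inf_le_left.trans (O_norm _ _)) (normO _ (normC inf_le_right)))))
      ((O_pig _ _).sup_l (O_pig _ _) (((O_le _ _).trans lH).trans (O_norm _ _)))))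

theorem Pat.cAo (h : Pat ι) (e : A = V0 ∨ A = F0) (l : Y ≤ C1[ι z0]) (n : Y ≤ N[Q0.map ι]) (od : PiG {2}ᶜ Y)
    (c : Y ≤ C[A.map ι]) : Y ≤ C[Q0.map ι] := by
  have cZ : Z0.map ι ≤ C[Y] := by rw [map_Z]; exact zpowers_le.2 (le_C1_iff.1 l)
  have cI : I0.map ι ≤ C[Y] := cop_stable ((map_pig Z0).coprime od).symm ((commC _ _).le.trans (comm_le_iff.2 (by
    rintro g hg _ ⟨x, a, rfl⟩
    rcases d7 x a with i | i
    · exact mul_mem (conj_mem (cents_norm (cent_symm cZ) hg) (mem_im i)) (inv_mem (mem_im i))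
    obtain ⟨y, b, e⟩ := CQ_I h.toTM ⟨map_le _ (conj_mem (n hg) (mem_im (I_Q a))),
      conj_mem (normC n hg) (I_CQ (mem_im a))⟩
    rcases (d8 x a).1 with j | j
    · exact mul_mem (conj_mem (cents_norm (cent_symm cZ) hg) (mem_im j)) (inv_mem (mem_im j))
    rw [← e, ← map_inv, ← map_mul]
    exact mem_im (i y b (h.inj (by
      rw [map_mul, e, conj_mul, ← map_mul, j, mem_C1.1 (l hg), mul_inv_cancel_right])))))) cZ
  have AQ : A ≤ Q0 := by rcases e with rfl | rfl; exacts [V_Q, F_Q]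
  have k : ⁅⁅Q0.map ι, Y⁆, A.map ι⁆ = ⊥ := three_subgroup (by rw [comm_eq_bot.2 c]; simp)
    (comm_eq_bot.2 (le_trans (comm_le_iff.2 (by
      rintro _ ⟨x, a, rfl⟩ _ ⟨y, b, rfl⟩
      rw [← map_inv, ← map_inv, ← map_mul, ← map_mul, ← map_mul]
      exact mem_im (d6 x (AQ a) y b))) cZ))
  refine cent_symm (cop_stable (((map_pig Q0).of_le (commL n)).coprime od).symm le_rfl fun r hr => ?_)
  obtain ⟨y, y1, rfl⟩ := commL n hr
  have m : ∀ t ∈ A, t * y = y * t := fun t a => h.inj (by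
    rw [map_mul, map_mul]; exact mem_C.1 (comm_eq_bot.1 k hr) _ (mem_im a))
  have j : y ∈ A ∨ y * i0 ∈ A := by
    rcases e with rfl | rfl
    · exact d4 y y1 fun t a => m t ((by decide +kernel : ∀ x ∈ [v0, f0], x ∈ V0) t a)
    · exact d5 y y1 fun t a => m t ((by decide +kernel : ∀ x ∈ [v0, e0], x ∈ F0) t a)
  refine j.elim (fun j => cent_symm c (mem_im j)) fun j => ?_
  exact (mul_mem_cancel_right (cI (mem_im (show i0 ∈ I0 by decide +kernel)))).1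
    (map_mul ι y i0 ▸ cent_symm c (mem_im j))

/-- an odd order subgroup of `C(z)` normalised by `V` or by `F` lies in `O(C(z))` -/
theorem Pat.pz (h : Pat ι) (e : A = V0 ∨ A = F0) (l : X ≤ C1[ι z0]) (od : PiG {2}ᶜ X) (n : A.map ι ≤ N[X]) :
    X ≤ O[{2}ᶜ](C1[ι z0]) := by
  have nO := O_norm {2}ᶜ C1[ι z0]
  have o := (O_pig {2}ᶜ C1[ι z0]).sup_l od (l.trans nO)
  have lH := sup_le (O_le {2}ᶜ C1[ι z0]) l
  have AQ : A ≤ Q0 := by rcases e with rfl | rfl; exacts [V_Q, F_Q]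
  refine le_sup_right.trans ((le_inf (lH.trans h.normQ) le_rfl).trans ?_)
  rw [modl_l (inf_le_left.trans nO) le_sup_left]
  have o' := o.of_le (inf_le_right (a := C1[ι z0] ⊓ N[Q0.map ι]))
  refine sup_le le_rfl (h.cQ (h.cAo e (inf_le_left.trans inf_le_left) (inf_le_left.trans inf_le_right) o' ?_) o')
  rw [← comm_eq_bot, ← le_bot_iff, ← (map_pig (ι := ι) Q0).inf_bot o]
  exact le_inf ((commS le_rfl (map_mono AQ)).trans (commR (inf_le_left.trans inf_le_right)))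
    ((commS inf_le_right le_rfl).trans (commL (normY ((map_le _).trans (rg_cen.trans nO)) n)))

end Cfsg.Agent.HY
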