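import Cfsg.Agent.HY.P0
import Cfsg.Agent.G75.B
import Cfsg.Agent.H8.SE2
import Cfsg.Agent.ZD.Fin

/-! # `O(C(z)) = 1` -/

set_option autoImplicit false
set_option linter.unusedVariables false
set_option linter.unusedSectionVars false

namespace Cfsg.Agent.HY
open Cfsg Cfsg.Agent.BG Subgroup PHom
open Cfsg.Agent.S3F (p2 SCl)

universe u

variable {G : Type u} [Group G] [Finite G] {ι : Sh →* G} {H K M X Y : Subgroup G} {A B : Subgroup Sh} {x y : Sh}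
  {a b c d g w : G}

open Cfsg.Agent.G75 (Q Q_le Q_odd nQ)
open Cfsg.Agent.SFT (Gen le_Gen Gen_le norm_Gen)

namespace Sig
theorem cj_Q (g a : G) : BG.cj g (Q a) = Q (g * a * g⁻¹) := by rw [Q, cj_O, cj_C1]

theorem cj_Gen (g : G) (V : Subgroup G) : BG.cj g (Gen V Q) ≤ Gen (BG.cj g V) Q :=
  cj_le_iff.2 (Gen_le fun a ha a1 => cj_le_iff.1 (by
    rw [cj_Q]; exact le_Gen (mem_cj_conj.2 ha) (by simpa using a1)))

theorem nc2 (ha : a ∈ X) (hb : b ∈ X) (oa : orderOf a = 2) (ob : orderOf b = 2) (n : a ≠ b) : ¬ Cyc X := fun c =>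
  (SE.mem_zp0 ob (c.le_of_dvd (zpowers_le.2 ha) (zpowers_le.2 hb) (by rw [card_zpowers', card_zpowers', oa, ob])
    (mem_zpowers a))).elim (fun e => by rw [e, orderOf_one] at oa; omega) n

theorem d1 : ∀ x, zc x → x = z0 ∨ (x ∈ Q0 ∧ x ∉ Z0) ∨ cl x = 6 := by decide +kernel
theorem d2 : ∀ x, zc x → x ≠ z0 → ∃ y, zc y ∧ y ≠ z0 ∧ x * y = y * x ∧ y * v0 = v0 * y ∧ (x * y = 1 ∨ zc (x * y)) ∧
    (y * v0 = 1 ∨ zc (y * v0)) := by decide +kernel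
theorem d3 : V0 ≤ C1[v0] ∧ F0 ≤ C1[a0] ∧ U0 ≤ C1[v0] ∧ U0 ≤ C1[a0] :=
  ⟨fun x => (by decide +kernel : ∀ x ∈ V0, x ∈ C1[v0]) x, fun x => (by decide +kernel : ∀ x ∈ F0, x ∈ C1[a0]) x,
    fun x => (by decide +kernel : ∀ x ∈ U0, x ∈ C1[v0]) x, fun x => (by decide +kernel : ∀ x ∈ U0, x ∈ C1[a0]) x⟩

/-- an elementary abelian group all of whose involutions are conjugate to `z` -/
def Gd (ι : Sh →* G) (X : Subgroup G) : Prop := Abelem 2 X ∧ ∀ a ∈ X, a ≠ 1 → Cj ⊤ a (ι z0)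

theorem Gd.sup (h : Gd ι X) (o : orderOf b = 2) (c : X ≤ C1[b]) (k : ∀ a ∈ X, a * b ≠ 1 → Cj ⊤ (a * b) (ι z0)) :
    Gd ι (X ⊔ zpowers b) := by
  have c' : X ≤ C[zpowers b] := C_zpowers b ▸ c
  refine ⟨h.1.sup (abelem_zpowers (o ▸ pow_orderOf_eq_one b)) c', fun a ha a1 => ?_⟩
  obtain ⟨x, x1, y, y1, rfl⟩ := (mem_sup_l (cents_norm (cent_symm c'))).1 ha
  rcases SE.mem_zp0 o y1 with rfl | rfl
  · rw [mul_one] at a1 ⊢; exact h.2 x x1 a1
  · exact k x x1 a1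
end Sig
open Sig

namespace Pat
variable (h : Pat ι)
include h

theorem oz (a : zc x) : orderOf (ι x) = 2 := h.ord (zc_sq x a).1 (zc_sq x a).2

theorem red (a : zc x) : x = z0 ∨ Cj C1[ι z0] (ι x) (ι v0) ∨ Cj C1[ι z0] (ι x) (ι a0) :=
  (d1 x a).imp_right fun i => i.imp (fun i => h.hq x i.1 (zc_sq x a).1 i.2)
    fun i => (cj_s' (show ∃ s, s * x * s⁻¹ = a0 by have := cl_rep x (by omega); rwa [i] at this)).mono rg_cen

theorem bal (ca : Cj ⊤ a (ι z0)) (cb : Cj ⊤ b (ι z0)) (c : a ∈ C1[b]) : Q a ⊓ C1[b] ≤ Q b := by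
  obtain ⟨g, -, e⟩ := cb
  have m : g * a * g⁻¹ ∈ C1[ι z0] := by rw [← e, ← cj_C1]; exact mem_cj_conj.2 c
  have ca' : Cj ⊤ (ι z0) (g * a * g⁻¹) := ca.symm.trans (cj_g g a)
  obtain ⟨x, -, d⟩ := h.inv_in rg_cen m (by obtain ⟨k, -, i⟩ := ca'; exact cjsq i (by decide +kernel))
  have k : ∀ y, Cj C1[ι z0] (g * a * g⁻¹) (ι y) → Q (ι y) ⊓ C1[ι z0] ≤ Q (ι z0) → Q a ⊓ C1[b] ≤ Q b := by
    rintro y ⟨k, k1, k2⟩ l
    have ek : k * ι z0 * k⁻¹ = ι z0 := mul_inv_eq_iff_eq_mul.2 (mem_C1.1 k1)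
    rwa [← cj_le_cj (g := g), ← cj_le_cj (g := k), cj_inf, cj_inf, cj_Q, cj_Q, cj_Q, cj_Q, cj_C1, cj_C1, e, k2, ek]
  have p : ∀ {A y}, A = V0 ∨ A = F0 → A ≤ C1[y] → Q (ι y) ⊓ C1[ι z0] ≤ Q (ι z0) := fun {A y} i j =>
    h.pz i inf_le_right ((Q_odd _).of_le inf_le_left)
      (normI (nQ ((map_mono j).trans (map_C1 y))) (normsG ((map_le _).trans rg_cen)))
  rcases h.red (h.zc_of (ca'.trans d.top)) with rfl | i | i
  exacts [k _ d inf_le_left, k _ (d.trans i) (p (.inl rfl) d3.1), k _ (d.trans i) (p (.inr rfl) d3.2.1)]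

theorem gbal (i : Gd ι X) (ha : a ∈ X) (a1 : a ≠ 1) (hb : b ∈ X) (b1 : b ≠ 1) : Q a ⊓ C1[b] ≤ Q b :=
  h.bal (i.2 a ha a1) (i.2 b hb b1) (i.1.abel.trans (C_le_C1 hb) ha)

theorem geq (i : Gd ι X) (l : Y ≤ X) (n : ¬ Cyc Y) : Gen Y Q = Gen X Q :=
  le_antisymm (Gen_le fun a ha a1 => le_Gen (l ha) a1) (Gen_le fun a ha a1 =>
    cop_gen_cent1 (i.1.of_le l).abel n (nQ (l.trans (i.1.abel.trans (C_le_C1 ha))))
      (((i.1.of_le l).pig p2).coprime (Q_odd a)) fun b hb b1 => (h.gbal i ha a1 (l hb) b1).trans (le_Gen hb b1))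

theorem link (i : Gd ι X) (j : Gd ι Y) (ha : ι z0 ∈ X ⊓ Y) (hb : ι x ∈ X ⊓ Y) (a : zc x) (n : x ≠ z0) :
    Gen X Q = Gen Y Q :=
  have c := nc2 hb ha (h.oz a) (h.oz (by decide +kernel)) fun e => n (h.inj e)
  (h.geq i inf_le_left c).symm.trans (h.geq j inf_le_right c)

theorem godd (i : Gd ι X) (c : 8 ≤ #X) : PiG {2}ᶜ (Gen X Q) :=
  SFT.famp (SFT.complete (θ := Q) ⟨abelem_iff.1 i.1, fun e _ _ => Q_le e,
    fun e _ _ => (pin_compl_cop p2).1 (Q_odd e), fun e he _ => nQ (i.1.abel.trans (C_le_C1 he)),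
    fun e he e1 f hf f1 => h.gbal i he e1 hf f1, fun e _ _ => H8.sol_of_odd (Q_odd e)⟩ (by omega))

theorem gV : Gd ι (V0.map ι) := ⟨ab_V.map ι, by
  rintro _ ⟨x, a, rfl⟩ n
  exact h.fz x (Q_zc x (V_Q a) ((pow_two x).symm.trans (ab_V.pow x a)) fun e => n (e ▸ map_one ι))⟩

theorem gz (i : Gd ι X) (l : X ≤ ι.range) : Gd ι (X ⊔ zpowers (ι z0)) :=
  i.sup (h.oz (by decide +kernel)) (l.trans rg_cen) fun a ha n => by
    obtain ⟨x, rfl⟩ := l ha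
    by_cases e : ι x = 1
    · rw [e, one_mul]; exact Cj.refl _ _
    rw [← map_mul, z0_cen]
    exact h.fz _ (zc_z x (h.zc_of (i.2 _ ha e).symm) fun e => n (by
      rw [e, ← map_mul, (zc_sq z0 (by decide +kernel)).1, map_one]))

theorem g3 (a : zc x) (b : zc y) (c : x * y = y * x) (d : x * y = 1 ∨ zc (x * y)) :
    Gd ι (zpowers (ι x) ⊔ zpowers (ι y) ⊔ zpowers (ι z0)) :=
  h.gz (Gd.sup ⟨abelem_zpowers (h.oz a ▸ pow_orderOf_eq_one _), fun w i n =>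
      ((SE.mem_zp0 (h.oz a) i).resolve_left n) ▸ h.fz x a⟩ (h.oz b)
    (zpowers_le.2 (map_C1 y (mem_im (mem_C1.2 c)))) fun w i n => by
      rcases SE.mem_zp0 (h.oz a) i with rfl | rfl
      · rw [one_mul]; exact h.fz y b
      · rw [← map_mul] at n ⊢
        exact h.fz _ (d.resolve_left fun e => n (e ▸ map_one ι)))
    (sup_le (zpowers_le.2 (mem_rg x)) (zpowers_le.2 (mem_rg y)))

theorem nW (l : BG.cj g (U0.map ι) ≤ ι.range) : g ∈ N[Gen (V0.map ι) Q] := by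
  have ov := h.oz (x := v0) (by decide +kernel)
  have oz := h.oz (x := z0) (by decide +kernel)
  have nu : ¬ Cyc (U0.map ι) := nc2 (mem_im (by decide +kernel)) (mem_im (by decide +kernel)) ov oz
    fun e => absurd (h.inj e) (by decide +kernel)
  have gu : Gd ι (BG.cj g (U0.map ι)) := ⟨(ab_U.map ι).cj g, fun a ha a1 => by
    obtain ⟨b, hb, rfl⟩ := exists_of_mem_cj ha
    exact (cj_g g b).symm.trans (h.gV.2 b (map_mono U_V hb) fun e => a1 (by simp [e]))⟩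
  obtain ⟨x, x1, x2⟩ : ∃ x, ι x ∈ BG.cj g (U0.map ι) ∧ zc x ∧ x ≠ z0 := by
    obtain ⟨x, e⟩ := l (mem_cj_conj.2 (mem_im (show z0 ∈ U0 by decide +kernel)))
    obtain ⟨y, f⟩ := l (mem_cj_conj.2 (mem_im (show v0 ∈ U0 by decide +kernel)))
    by_cases i : x = z0
    · exact ⟨y, f ▸ mem_cj_conj.2 (mem_im (by decide +kernel)), h.zc_cj (x := v0) (by decide +kernel) ⟨g, trivial, f.symm⟩,
        fun j => absurd (h.inj (show ι z0 = ι v0 by simpa using e.symm.trans ((congrArg ι (i.trans j.symm)).trans f)))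
          (by decide +kernel)⟩
    · exact ⟨x, e ▸ mem_cj_conj.2 (mem_im (by decide +kernel)), h.zc_of ⟨g, trivial, e.symm⟩, i⟩
  obtain ⟨y, y1, y2, y3, y4, y5, y6⟩ := d2 x x2.1 x2.2
  have mz : ∀ X : Subgroup G, ι z0 ∈ X ⊔ zpowers (ι z0) := fun X => mem_sup_right (mem_zpowers _)
  have ml : ∀ a b : G, a ∈ zpowers a ⊔ zpowers b ⊔ zpowers (ι z0) := fun a b => mem_sup_left (mem_sup_left (mem_zpowers _))
  have mr : ∀ a b : G, b ∈ zpowers a ⊔ zpowers b ⊔ zpowers (ι z0) := fun a b => mem_sup_left (mem_sup_right (mem_zpowers _))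
  have g1 := h.g3 x2.1 y1 y3 y5
  have g2 := h.g3 y1 (show zc v0 by decide +kernel) y4 y6
  refine mem_N_of_cj_le ?_
  nth_rewrite 1 [← h.geq h.gV (map_mono U_V) nu]
  refine (cj_Gen g _).trans (le_of_eq ?_)
  rw [h.geq (h.gz gu l) le_sup_left (fun c => nu (cyc_cj.1 c)),
    h.link (h.gz gu l) g1 ⟨mz _, mz _⟩ ⟨mem_sup_left x1, ml _ _⟩ x2.1 x2.2,
    h.link g1 g2 ⟨mz _, mz _⟩ ⟨mr _ _, ml _ _⟩ y1 y2,
    h.link g2 h.gV ⟨mz _, mem_im (by decide +kernel)⟩ ⟨mr _ _, mem_im (by decide +kernel)⟩ (by decide +kernel)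
      (by decide +kernel)]
end Pat

theorem Pat.top [IsSimpleGroup G] (h : Pat ι) (m : C1[ι z0] ≤ M) (mv : Cj M (ι v0) (ι z0)) (ma : Cj M (ι a0) (ι z0)) :
    M = ⊤ := by
  have oz := h.oz (x := z0) (by decide +kernel)
  have ctrl : ∀ {x}, zc x → Cj M (ι x) (ι z0) := fun {x} a => by
    rcases h.red a with rfl | i | i
    exacts [Cj.refl _ _, (i.mono m).trans mv, (i.mono m).trans ma]
  by_contra n
  have se := ZD.s1175 n oz (m (mem_C1_self _)) h.syl rg_cen (fun g a => by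
    obtain ⟨x, x2, c⟩ := h.inv_in (rg_cen.trans m) a (cjsq rfl (by decide +kernel))
    obtain ⟨k, hk, f⟩ := c.trans (ctrl (h.zc_of ((cj_g g _).trans c.top)))
    exact (mul_mem_cancel_left hk).1 (m (mem_C1.2 (mul_inv_eq_iff_eq_mul.1 (Eq.trans (by group) f)))))
    fun g a b => by
    obtain ⟨x, x2, k, hk, c⟩ := h.inv_in rg_cen (w := g * ι z0 * g⁻¹) (mem_C1.2 a.symm) (cjsq rfl (by decide +kernel))
    have ek : k * ι z0 * k⁻¹ = ι z0 := mul_inv_eq_iff_eq_mul.2 (mem_C1.1 hk)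
    obtain ⟨l, hl, f⟩ := ctrl (zc_z x (h.zc_of ((cj_g g _).trans ⟨k, trivial, c⟩)) (by
      rintro rfl
      exact b (by simpa using c.trans ek.symm)))
    have : ι z0 * (g * ι z0 * g⁻¹) = (l * k)⁻¹ * ι z0 * (l * k)⁻¹⁻¹ := by
      have i : ι (z0 * x) = k * (ι z0 * (g * ι z0 * g⁻¹)) * k⁻¹ := by rw [map_mul, ← conj_mul, c, ek]
      conv_rhs => rw [← f, i]
      group
    rw [this, ← cj_C1]
    exact cj_le_of_mem m (normG _ (inv_mem (mul_mem hl (m hk))))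
  exact h.ne (cj_iff.2 (Inv.se_isConj se oz (h.ord (by decide +kernel) (by decide +kernel))))

theorem Pat.O_bot [IsSimpleGroup G] (h : Pat ι) : O[{2}ᶜ](C1[ι z0]) = ⊥ := by
  have l : Q (ι z0) ≤ Gen (V0.map ι) Q := le_Gen (mem_im (by decide +kernel)) (h.ne_one (by decide +kernel))
  have k : ∀ x, zc x → U0 ≤ C1[x] → Cj N[Gen (V0.map ι) Q] (ι x) (ι z0) := fun x a b => by
    obtain ⟨g, e, d⟩ := h.toZ (h.fz x a)
    exact ⟨g, h.nW ((cj_mono _ (map_mono b)).trans d), e⟩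
  have e := h.top (h.normQ.trans (sup_le (l.trans (normG _)) fun g a => h.nW
    ((cj_le_of_mem (map_mono (U_V.trans V_Q)) a.2).trans (map_le _)))) (k _ (by decide +kernel) d3.2.2.1)
    (k _ (by decide +kernel) d3.2.2.2)
  rcases (normal_iff.2 e.ge).eq_bot_or_eq_top with i | i
  · exact le_bot_iff.1 (i ▸ l)
  · exact (h.ne_one (show z0 ≠ 1 by decide +kernel) (((map_pig Z0).elt (mem_im (by decide +kernel))).eq_one
      ((h.godd h.gV (by rw [h.card, card_V0])).elt (i ▸ mem_top _)))).elim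

end Cfsg.Agent.HY
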