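import Cfsg.Agent.HY.Hz
import Cfsg.Agent.HY.Sig
import Cfsg.Agent.HY.Mod

/-! # The relations -/

set_option autoImplicit false
set_option linter.unusedVariables false
set_option linter.unusedSectionVars false

namespace Cfsg.Agent.HY
open Cfsg Cfsg.Agent.BG Subgroup PHom
open Cfsg.Agent.S3F (p2 SCl)

universe u

variable {G : Type u} [Group G] [Finite G] {ι : Sh →* G} {H K M X Y : Subgroup G} {A B : Subgroup Sh} {x y : Sh}
  {a b c d g w : G}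

namespace Rl
open HJ (ev atm ev_append ev_cons)
variable {α : ℕ → G} {T : ℕ} {S : List ℕ} {f : Sh → Sh}

/-- the letters in `Sh` -/
def sa (y : ℕ) : Sh := if y = 0 then a0 else if y = 2 then q0 else t0
/-- the actions of the letters -/
def fs (T : ℕ) (y : ℕ) (x : Sh) : Sh :=
  if y = 6 then Sh.tb BA x else if y = 8 then Sh.tb T x else if y = 10 then Sh.tb BC x else sa y * x * (sa y)⁻¹
def wf (T : ℕ) : List ℕ → Sh → Sh
  | [], x => x
  | y :: l, x => fs T y (wf T l x)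

theorem evS (l : List ℕ) (e : ∀ y ∈ l, y = 0 ∨ y = 2 ∨ y = 4) : ev (atm [ι a0, ι q0, ι t0, b, c, d]) l = ι (ev sa l) := by
  induction l with
  | nil => simp
  | cons y l ih =>
    rw [ev_cons, ev_cons, map_mul, ih fun y a => e y (List.mem_cons_of_mem _ a)]
    rcases e y List.mem_cons_self with rfl | rfl | rfl <;> rfl
theorem rel0 {l : List ℕ} (e : (∀ y ∈ l, y = 0 ∨ y = 2 ∨ y = 4) ∧ ev sa l = 1 := by decide +kernel) :
    ev (atm [ι a0, ι q0, ι t0, b, c, d]) l = 1 := by rw [evS l e.1, e.2, map_one]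

theorem actW (h : ∀ y ∈ S, Act ι (α y) A (fs T y)) (m : ∀ y ∈ S, ∀ x ∈ A, fs T y x ∈ A) (l : List ℕ) (e : ∀ y ∈ l, y ∈ S) :
    Act ι (ev α l) A (wf T l) ∧ ∀ x ∈ A, wf T l x ∈ A := by
  induction l with
  | nil => exact ⟨fun x _ => by simp [wf], fun _ a => a⟩
  | cons y l ih =>
    obtain ⟨i1, i2⟩ := ih fun y a => e y (List.mem_cons_of_mem _ a)
    exact ⟨(h y (e y List.mem_cons_self)).mul i1 i2, fun x a => m y (e y List.mem_cons_self) _ (i2 x a)⟩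
theorem cen (a : Act ι g A f) (l : B ≤ A) (e : ∀ x ∈ B, f x = x) : g ∈ C[B.map ι] := by
  refine mem_C.2 ?_
  rintro _ ⟨x, m, rfl⟩
  have := a x (l m)
  rw [e x m] at this
  exact (mul_inv_eq_iff_eq_mul.1 this).symm
theorem cz (a : Act ι g A f) (e : z0 ∈ A ∧ f z0 = z0) : g ∈ C1[ι z0] := by
  have := a _ e.1
  rw [e.2] at this
  exact mem_C1.2 (mul_inv_eq_iff_eq_mul.1 this)
theorem rel1 (hT : TM ι) (hC : C[B.map ι] ≤ A.map ι) (l : B ≤ A) (h : ∀ y ∈ S, Act ι (α y) A (fs T y))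
    (m : ∀ y ∈ S, ∀ x ∈ A, fs T y x ∈ A) (l0 : List ℕ) {l1 : List ℕ} (e : (∀ y ∈ l0, y ∈ S) ∧ (∀ y ∈ l1, y ∈ S) ∧
      l0 ++ l1 = l1 ++ l0 ∧ (∀ x ∈ B, wf T l1 x = x) ∧ ∀ x ∈ A, wf T l0 x = x → x = 1) :
    ev α l1 = 1 := by
  obtain ⟨e0, e1, e, h1, h2⟩ := e
  obtain ⟨w, w1, w2⟩ := hC (cen (actW h m l1 e1).1 l h1)
  have := (actW h m l0 e0).1 w w1
  have c := congrArg (ev α) e
  rw [ev_append, ev_append, ← w2] at c
  rw [c, mul_inv_cancel_right] at this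
  rw [← w2, h2 w w1 (hT.inj this).symm, map_one]
theorem rel2 {y : ℕ} (hb : g * g = 1) (a : Act ι g A f) (l1 l2 : List ℕ) (e0 : atm [ι a0, ι q0, ι t0, b, c, d] y = g)
    (e : (∀ y ∈ l1, y = 0 ∨ y = 2 ∨ y = 4) ∧ (∀ y ∈ l2, y = 0 ∨ y = 2 ∨ y = 4) ∧ ev sa l1 ∈ A ∧ f (ev sa l1) * ev sa l2 = 1) :
    ev (atm [ι a0, ι q0, ι t0, b, c, d]) (y :: (l1 ++ y :: l2)) = 1 := by
  have := a _ e.2.2.1
  rw [inv_eq_of_mul_eq_one_right hb] at this
  rw [ev_cons, ev_append, ev_cons, evS l1 e.1, evS l2 e.2.1, e0, ← mul_assoc, ← mul_assoc, this, ← map_mul, e.2.2.2, map_one]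
theorem cube (l : List ℕ) (e : ev α l = g) (h : g ^ 3 = 1) : ev α (l ++ (l ++ l)) = 1 := by
  rw [ev_append, ev_append, e, ← pow_three, h]
theorem brd (ha : a * a = 1) (hb : b * b = 1) (h : (a * b) ^ 3 = 1) : a * b * a * (a * b)⁻¹ = b := by
  rw [mul_inv_eq_iff_eq_mul, eq_inv_of_mul_eq_one_left (show a * b * a * (b * (a * b)) = 1 by
    simpa only [pow_succ, pow_zero, one_mul, mul_assoc] using h), mul_inv_rev, mul_inv_rev, inv_eq_of_mul_eq_one_right ha,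
    inv_eq_of_mul_eq_one_right hb, mul_assoc]

theorem bd (h : Pat ι) (o : O[{2}ᶜ](C1[ι z0]) = ⊥) (hb : Has ι a0 Ra BA b) (hd : Has ι u0 Rc BC d) :
    b * d * (b * d) = ι z0 := by
  have bz := cz hb.2.2 (by decide +kernel)
  have dz := cz hd.2.2 (by decide +kernel)
  have a2 := (hb.2.2.mono Q_Ra).mul (hd.2.2.mono Q_Rc) (by decide +kernel)
  have c2 := cen (a2.mul a2 (by decide +kernel)) le_rfl (by decide +kernel)
  obtain ⟨w, w1, w2⟩ := h.CQ o c2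
  have p : PiG {2} (zpowers (b * d) ⊔ zpowers b : Subgroup G) := by
    refine PiG.sup_l (pig_zpowers.2 ((pin_pow_self p2 4).of_dvd (orderOf_dvd_of_pow_eq_one ?_)))
      (pig_zpowers.2 (pie_of_pow p2 ((pow_two b).trans hb.1))) (zpowers_le.2 (mem_N_of ?_))
    · rw [show 2 ^ 4 = 2 * 8 from rfl, pow_mul, pow_two, ← w2, ← map_pow, pow8, map_one]
    · rintro _ ⟨n, rfl⟩
      rw [← conj_zpow, ← mul_assoc, hb.1, one_mul]
      nth_rw 2 [← inv_eq_of_mul_eq_one_right hd.1]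
      rw [← mul_inv_rev]
      exact zpow_mem (inv_mem (mem_zpowers _)) n
  obtain ⟨g, g1, g2⟩ := h.cj_sub rg_cen (sup_le (zpowers_le.2 (mul_mem bz dz)) (zpowers_le.2 bz)) p
  obtain ⟨x, hx⟩ := g2 (mem_cj_conj.2 (mem_sup_right (mem_zpowers b)))
  obtain ⟨y, hy⟩ := g2 (mem_cj_conj.2 (mul_mem (mem_sup_right (mem_zpowers b)) (mem_sup_left (mem_zpowers (b * d)))))
  rw [← mul_assoc b, hb.1, one_mul] at hy
  have k : ∀ {s x : Sh} {b : G}, b ∈ C1[ι z0] → b * b = 1 → (ι s * b) ^ 3 = 1 → zc s → s ∉ Q0 → ι x = g * b * g⁻¹ →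
      cl x = 6 := fun {s x b} b1 b2 b3 s1 s2 e => by
    have r : Cj C1[ι z0] (ι s) (ι x) :=
      Cj.trans ⟨_, mul_mem (rg_cen (mem_rg s)) b1, brd (by rw [← map_mul, (zc_sq s s1).1, map_one]) b2 b3⟩ ⟨g, g1, e.symm⟩
    exact (by decide +kernel : ∀ x, zc x → x ∉ Q0 → cl x = 6) x (h.zc_cj s1 r.top) fun m => s2 (h.sc x m s r.symm)
  have xy : ι (x * y) = g * (b * d) * g⁻¹ := by rw [map_mul, hx, hy, conj_mul]
  have xy2 : ι (x * y * (x * y)) = g * (b * d * (b * d)) * g⁻¹ := by rw [map_mul, xy, conj_mul]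
  have := (by decide +kernel : ∀ x, cl x = 6 → ∀ y, cl y = 6 → x * y ∉ Q0 → x * y * (x * y) ∈ I0 → x * y * (x * y) = z0)
    x (k bz hb.1 hb.2.1 (by decide +kernel) (by decide +kernel) hx)
    y (k dz hd.1 hd.2.1 (by decide +kernel) (by decide +kernel) hy) (fun m => by
      obtain ⟨s, s1, s2⟩ := (mem_N.1 (h.nQ o g1) _).2 (xy ▸ mem_im m)
      have := a2 q0 (by decide +kernel)
      rw [← s2, ← map_inv, ← map_mul, ← map_mul] at this
      exact (by decide +kernel : ∀ s ∈ Q0, s * q0 * s⁻¹ ≠ Sh.tb BA (Sh.tb BC q0)) s s1 (h.inj this))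
    (h.mem_iff.1 (h.CQ o (xy2 ▸ (mem_N.1 (normC (h.nQ o) g1) _).1 c2)))
  rw [this, eq_mul_inv_iff_mul_eq, ← mem_C1.1 g1] at xy2
  exact (mul_left_cancel xy2).symm
end Rl

namespace Pat
variable (h : Pat ι) (o : O[{2}ᶜ](C1[ι z0]) = ⊥)
include h o

theorem mixed (hb : Has ι a0 Ra BA b) (hc : Has ι q0 Rb BB' c) : False := by
  have a := (Rl.actW (α := HJ.atm [ι a0, ι q0, ι t0, b, c, c]) (T := BB') (S := [6, 8]) (A := W0) (by
    simp only [List.forall_mem_cons]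
    exact ⟨hb.2.2.mono W_Ra, hc.2.2.mono W_Rb, by simp⟩) (by decide +kernel) [6, 8, 6, 8, 6, 8] (by decide)).1
  obtain ⟨w, w1, w2⟩ := h.CV o (Rl.cen a V_W (by decide +kernel))
  have := a i0 (by decide +kernel)
  rw [← w2, ← map_inv, ← map_mul, ← map_mul] at this
  exact (by decide +kernel : ∀ s ∈ W0, s * i0 * s⁻¹ ≠ Rl.wf BB' [6, 8, 6, 8, 6, 8] i0) w w1 (h.inj this)

theorem sat (hb : Has ι a0 Ra BA b) (hc : Has ι q0 Rb BB c) (hd : Has ι u0 Rc BC d) :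
    HJ.Sat RG [ι a0, ι q0, ι t0, b, c, d] := by
  have r1 := fun l0 l1 => Rl.rel1 (l0 := l0) (l1 := l1) (α := HJ.atm [ι a0, ι q0, ι t0, b, c, d]) (T := BB) (S := [0, 2, 6, 8]) h.toTM (h.CV o) V_W (by
    simp only [List.forall_mem_cons]
    exact ⟨act_s _ _, act_s _ _, hb.2.2.mono W_Ra, hc.2.2.mono W_Rb, by simp⟩) (by decide +kernel)
  have r2 := fun l0 l1 => Rl.rel1 (l0 := l0) (l1 := l1) (α := HJ.atm [ι a0, ι q0, ι t0, b, c, d]) (T := BB) (S := [2, 8, 10]) h.toTM (h.CE o) le_rfl (by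
    simp only [List.forall_mem_cons]
    exact ⟨act_s _ _, hc.2.2.mono E_Rb, hd.2.2.mono E_Rc, by simp⟩) (by decide +kernel)
  have sq : ∀ {g : G}, g * g = 1 → g * (g * 1) = 1 := fun e => by rwa [mul_one]
  simp only [HJ.Sat, RG, Spor.HYg.RL, List.cons_append, List.nil_append, List.forall_mem_cons]
  refine ⟨Rl.rel0, Rl.rel0, Rl.rel0, sq hb.1, sq hc.1, sq hd.1, Rl.rel0, Rl.rel0, Rl.rel0, Rl.rel0,
    Rl.cube [0, 6] (congrArg (ι a0 * ·) (mul_one b)) hb.2.1, Rl.cube [2, 8] (congrArg (ι q0 * ·) (mul_one c)) hc.2.1,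
    Rl.cube [4, 0, 4, 10] ?_ hd.2.1,
    Rl.rel2 hb.1 hb.2.2 [2, 4] [4, 2] rfl (by decide +kernel), Rl.rel2 hb.1 hb.2.2 [0, 4, 0] [4, 0, 2, 4, 2, 0] rfl (by decide +kernel),
    Rl.rel2 hb.1 hb.2.2 [0, 2, 0, 2] [4, 0, 2, 0, 4] rfl (by decide +kernel),
    Rl.rel2 hc.1 hc.2.2 [2, 4] [2, 4] rfl (by decide +kernel), Rl.rel2 hc.1 hc.2.2 [0] [2, 0, 2, 0] rfl (by decide +kernel),
    Rl.rel2 hd.1 hd.2.2 [0] [4, 0, 4, 0, 4, 0, 4] rfl (by decide +kernel),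
    Rl.rel2 hd.1 hd.2.2 [4, 2, 4, 0] [4, 2, 4, 0] rfl (by decide +kernel),
    Rl.rel2 hd.1 hd.2.2 [4, 0, 2, 0, 2, 4] [0, 2, 0] rfl (by decide +kernel),
    r1 [0, 6, 8] _ (by decide +kernel), r1 [0, 2, 6, 8, 6, 8] _ (by decide +kernel), r2 [8, 10] _ (by decide +kernel),
    r2 [8, 10, 8, 10, 2] _ (by decide +kernel), ?_, by simp⟩
  · show ι t0 * (ι a0 * (ι t0 * (d * 1))) = _
    rw [mul_one, ← mul_assoc, ← mul_assoc, ← map_mul, ← map_mul, show t0 * a0 * t0 = u0 by decide +kernel]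
  · show b * (d * (b * (d * HJ.ev _ [4, 0, 4, 0, 4, 0, 4, 0]))) = 1
    rw [Rl.evS _ (by decide), ← mul_assoc b d, ← mul_assoc b d, ← mul_assoc, Rl.bd h o hb hd, ← map_mul,
      show z0 * HJ.ev Rl.sa [4, 0, 4, 0, 4, 0, 4, 0] = 1 by decide +kernel, map_one]

theorem gen [IsSimpleGroup G] (hb : Has ι a0 Ra BA b) (hc : Has ι q0 Rb BB c) (hd : Has ι u0 Rc BC d) (x : G) :
    x ∈ HJ.clo [ι a0, ι q0, ι t0, b, c, d] := by
  generalize hM : HJ.clo [ι a0, ι q0, ι t0, b, c, d] = M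
  have m : ∀ x ∈ [ι a0, ι q0, ι t0, b, c, d], x ∈ M := fun x a => hM ▸ HJ.mem_clo a
  have s : ι.range ≤ M := by
    rintro _ ⟨x, rfl⟩
    exact top_le_of (A := M.comap ι) (m _ (by simp)) (m _ (by simp)) (m _ (by simp)) (mem_top x)
  have k : ∀ {K : Subgroup G} {g : G} {A : Subgroup Sh} {f : Sh → Sh}, ι.range ≤ K → g ∈ K → Act ι g A f → ∀ x y, x ∈ A →
      (∃ s, s * f x * s⁻¹ = y) → Cj K (ι x) (ι y) := fun l m a x y x1 e => Cj.trans ⟨_, m, a x x1⟩ ((cj_s' e).mono l)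
  have s' : ι.range ≤ M ⊓ C1[ι z0] := le_inf s rg_cen
  have mb : b ∈ M ⊓ C1[ι z0] := ⟨m _ (by simp), Rl.cz hb.2.2 (by decide +kernel)⟩
  have md : d ∈ M ⊓ C1[ι z0] := ⟨m _ (by simp), Rl.cz hd.2.2 (by decide +kernel)⟩
  have r1 := k s' mb hb.2.2 v0 f0 (by decide +kernel) (by decide +kernel)
  have r2 := k s' mb hb.2.2 e0 q0 (by decide +kernel) (by decide +kernel)
  have r3 := k s' md hd.2.2 v0 e0 (by decide +kernel) (by decide +kernel)
  have r4 := (k s (m c (by simp)) hc.2.2 z0 v0 (by decide +kernel) (by decide +kernel)).symm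
  have r5 := k s (m c (by simp)) hc.2.2 a0 e0 (by decide +kernel) (by decide +kernel)
  refine h.top (M := M) (fun g g1 => ?_) r4 ((r5.trans (r3.symm.mono inf_le_left)).trans r4) ▸ mem_top x
  obtain ⟨y, y1, e⟩ := (mem_N.1 (h.nQ o g1) _).1 (mem_im (show v0 ∈ Q0 by decide +kernel))
  have y2 : y * y = 1 := h.sq_of (cjsq e.symm (by decide +kernel))
  have r : Cj (M ⊓ C1[ι z0]) (ι y) (ι v0) := by
    have r := (cj_s' (ι := ι) (cl_rep y ((cl_sq y).1 y2))).mono s'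
    rcases (by decide +kernel : ∀ y ∈ Q0, y * y = 1 → y = 1 ∨ y = z0 ∨ rep (cl y) = v0 ∨ rep (cl y) = f0 ∨ rep (cl y) = e0 ∨
      rep (cl y) = q0) y y1 y2 with rfl | rfl | i | i | i | i
    · exact (h.ne_one (show v0 ≠ 1 by decide +kernel) (by simpa using e.symm)).elim
    · rw [eq_mul_inv_iff_mul_eq, ← mem_C1.1 g1] at e
      exact absurd (h.inj (mul_left_cancel e)) (by decide +kernel)
    all_goals rw [i] at r
    exacts [r, r.trans r1.symm, r.trans r3.symm, (r.trans r2.symm).trans r3.symm]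
  obtain ⟨n, n1, n2⟩ := r
  have : n * g ∈ C1[ι z0] ⊓ C1[ι v0] := ⟨mul_mem n1.2 g1, mem_C1.2 (by
    rw [← mul_inv_eq_iff_eq_mul]; rw [e] at n2; exact Eq.trans (by group) n2)⟩
  rw [h.CU o] at this
  exact (mul_mem_cancel_left (mem_inf.1 n1).1).1 (s (map_le _ this))
end Pat

end Cfsg.Agent.HY
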