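import Cfsg.Agent.GF.Main

/-! # The group `Sh = (Z₄ × Z₄ × Z₄) : D₈` of order `512`, a Sylow `2`-subgroup of `HS`

`mk (64 d + w)` is `w d`, where `w < 64` codes a triple and `d < 8` an element of `D₈`.
Every statement about finitely many elements is checked by `decide +kernel`. -/

set_option autoImplicit false

namespace Cfsg.Agent.HY
open Cfsg Cfsg.Agent.BG Subgroup

@[ext] structure Sh where
  n : ℕ
  lt : n < 512

namespace Sh
def AC : ℕ := 0x79d71f49141359551769961b9649e6a68aeab6cbee8608e2f3ffbdc33cb1d37db5e3beb91c61442ca2483ce34c0c2040ebbe39fbff3dcb3c31db7d35becb6e8e08629e4966ae8a6a41149351559761969b71d79f1461c424a2c834e3cc0420c05d6554cb1c3375c7dee3beb930f38daeaa681851078608e2d74df6413491ffef7c69961bbadb2f2482ca9279a50c2040c72cf0597515ef8e7a71d79f30d38f8628e0187105ae8a6a6d865af3dfbf4524d0db7d359a79252c824ab2dbaf0420c061969bdf4d76493411f7effc1051878e086238f30da6aae8c31cb37dc75eebbe395565d4b2dbaf2c824a9a79250420c0d37db56586dafbdf3f4d2450107185a68aea38d30f8e2860517595e78efa79d71fcf2c709279a52482cabadb2f0c20404524d075e7dc65a6d85565d49669e48628e0b6ebeca6aae8e7aef8d76df4c72cf0f7effc34e3cc24a2c81461c40420c0ffef7cefae78df6d74cf2c70beeb6caeaa689e69648e28607de75c6da6585d65544d24503ce34c2ca2481c61440c2040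
def DM : ℕ := 0x5397721ab3e5063dd74f1948b0e6baf9c22de54c1fac688
def IV : ℕ := 0xfb7dfe9f5f97cfe1f1ff7fff9fdfd7eff1f9f7fb3dbeef5fa3d3eaf3f93cbe6f1f83c3e2ea757add7e8747a5d3ee777bddfec767b5dbe6f3b9fcce4f2b97c8e2f1b8fc4e0f0b87c0cd667319bcb6572997c96472193cf677399fd2e934fa6d0e8347a2d6eb35faed4ea357aad86cf65b1de6ff7dbddc6ef75b9da6df6db5c7e3b1b8cc5e2b1388c3e1b0b84c1e0b0380bedfaff7ca954ea151bbdd2eb76ac566b55ba25168d47b4daad768a753e994db1d82c362afd72bb5eb85c6e573aad5aaf54bd5eef179b359ec965a5d22934ab65b6dd6fa0d0a87407c3edf4f96eb71bede793c5e0f36bb59aad46633d9ccd70b81c6e26331588c775ba9d2e86834da4d17abd1eef66d365b0db7fbf9fafc7239dcce564b2196ca773b5d8ef61b0982c089c4a23109f4f6793f8cc62371a9a4de6d358241e0d0591c8a432087436190f94ca2572a9cce2773a8a45e2d1599cca63308f476391f974b6592f84c22170a9249e4d2581c0a03004e2753c9f5dae172ba4b25d289558ac966b0462351c8f55aa152aa4321d088550a8946a05e2f57cbf4da61329a5b2dd68b548a492690562b55caf45a21128a5329d48a540a090680399c8e2703b9d8ea743d9e8f2783f9f8fa7c379b8da6c31988c26033998ca64359a8d2682d968b2582f978ba5c29948a2502b958aa54239188a44259289248279389a4c2190882400a8582e140c86836180e8783e1c088482610128984e24148a85628168b85e2c1088846201a8d86e341c8e876381e8f87e3c188c86630028180e04048281608068381e0c008080600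
def CL : ℕ := 0xbbbbbbbbbbbbbbbb7a7a4a4a7a7a4a4abbbbbbbbbbbbbbbba7a7a4a4a7a7a4a4bbbbbbbbbbbbbbbbaaaaaaaaaaaaaaaabbbbbbbbbbbbbbbb6969969669699696a8a8bbbb8a8abbbbbbbba5a5bbbb5a5a8a8abbbba8a8bbbbbbbb5a5abbbba5a5bbbbbbbbbbbbbbbbaaaaaaaaaaaaaaaabbbbbbbbbbbbbbbbaaaaaaaaaaaaaaaabbbbbbbbbbbbbbbbaaaaaaaaaaaaaaaabbbbbbbbbbbbbbbbaaaaaaaaaaaaaaaabbbb8a8abbbba8a8bbbb5a5abbbba5a5bbbb8a8abbbba8a8bbbb5a5abbbba5a5bbbbbbbbbbbbbbbb9696aaaa9696aaaabbbbbbbbbbbbbbbbaaaa9696aaaa9696aaaaaaaaaaaaaaaaaaaaa3a3aaaaa3a3aaaaaaaaaaaaaaaaaaaaa2a2aaaaa1a0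
def ad (x y : ℕ) : ℕ :=
  Nat.mod (Nat.add (Nat.land (Nat.add (Nat.land x 51) (Nat.land y 51)) 51)
    (Nat.land (Nat.add (Nat.land x 12) (Nat.land y 12)) 12)) 64
def ac (d x : ℕ) : ℕ := Nat.mod (Nat.shiftRight AC (Nat.mul 6 (Nat.add (Nat.mul 64 d) x))) 64
def dm (d e : ℕ) : ℕ := Nat.mod (Nat.shiftRight DM (Nat.mul 3 (Nat.add (Nat.mul 8 d) e))) 8
/-- the product of codes -/
def mN (x y : ℕ) : ℕ :=
  Nat.add (Nat.mul 64 (dm (Nat.div x 64) (Nat.div y 64))) (ad (Nat.mod x 64) (ac (Nat.div x 64) (Nat.mod y 64)))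
theorem ad_lt (x y : ℕ) : ad x y < 64 := Nat.mod_lt _ (by decide)
theorem ac_lt (x y : ℕ) : ac x y < 64 := Nat.mod_lt _ (by decide)
theorem dm_lt (x y : ℕ) : dm x y < 8 := Nat.mod_lt _ (by decide)
theorem mN_def (x y : ℕ) : mN x y = 64 * dm (x / 64) (y / 64) + ad (x % 64) (ac (x / 64) (y % 64)) := rfl
theorem mN_lt (x y : ℕ) : mN x y < 512 := by
  have := ad_lt (x % 64) (ac (x / 64) (y % 64))
  have := dm_lt (x / 64) (y / 64)
  rw [mN_def]; omega
theorem mN_div (x y : ℕ) : mN x y / 64 = dm (x / 64) (y / 64) := by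
  have := ad_lt (x % 64) (ac (x / 64) (y % 64))
  rw [mN_def]; omega
theorem mN_mod (x y : ℕ) : mN x y % 64 = ad (x % 64) (ac (x / 64) (y % 64)) := by
  have := ad_lt (x % 64) (ac (x / 64) (y % 64))
  rw [mN_def]; omega
/-- a loop -/
def allN (p : ℕ → Bool) (n : ℕ) : Bool := Nat.rec true (fun k r => p k && r) n
theorem allN_iff (p : ℕ → Bool) (n : ℕ) : allN p n = true ↔ ∀ k < n, p k = true := by
  induction n with
  | zero => exact ⟨fun _ _ h => absurd h (Nat.not_lt_zero _), fun _ => rfl⟩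
  | succ n ih => rw [Nat.forall_lt_succ_right, ← ih, and_comm, ← Bool.and_eq_true]; rfl
theorem all3 {f g : ℕ → ℕ → ℕ → ℕ} {a b c : ℕ}
    (h : allN (fun x => allN (fun y => allN (fun z => Nat.beq (f x y z) (g x y z)) c) b) a = true)
    {x y z : ℕ} (hx : x < a) (hy : y < b) (hz : z < c) : f x y z = g x y z :=
  Nat.eq_of_beq_eq_true ((allN_iff _ _).1 ((allN_iff _ _).1 ((allN_iff _ _).1 h x hx) y hy) z hz)
def dec (x : ℕ) : ZMod 4 × ZMod 4 × ZMod 4 := ((x % 4 : ℕ), (x / 4 % 4 : ℕ), (x / 16 % 4 : ℕ))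
theorem dec_ad : ∀ x < 64, ∀ y < 64, dec (ad x y) = dec x + dec y := by decide +kernel
theorem dec_inj : ∀ x < 64, ∀ y < 64, dec x = dec y → x = y := by decide +kernel
theorem ad_assoc {x y z : ℕ} (a : x < 64) (b : y < 64) (c : z < 64) : ad (ad x y) z = ad x (ad y z) :=
  dec_inj _ (ad_lt _ _) _ (ad_lt _ _) (by
    rw [dec_ad _ (ad_lt _ _) _ c, dec_ad _ a _ b, dec_ad _ a _ (ad_lt _ _), dec_ad _ b _ c, add_assoc])
theorem ac_ad {d x y : ℕ} : d < 8 → x < 64 → y < 64 → ac d (ad x y) = ad (ac d x) (ac d y) :=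
  all3 (f := fun d x y => ac d (ad x y)) (g := fun d x y => ad (ac d x) (ac d y)) (by decide +kernel)
theorem ac_dm {d e x : ℕ} : d < 8 → e < 8 → x < 64 → ac (dm d e) x = ac d (ac e x) :=
  all3 (f := fun d e x => ac (dm d e) x) (g := fun d e x => ac d (ac e x)) (by decide +kernel)
theorem dm_assoc {x y z : ℕ} : x < 8 → y < 8 → z < 8 → dm (dm x y) z = dm x (dm y z) :=
  all3 (f := fun x y z => dm (dm x y) z) (g := fun x y z => dm x (dm y z)) (by decide +kernel)
theorem mN_assoc {x y z : ℕ} (a : x < 512) (b : y < 512) (c : z < 512) : mN (mN x y) z = mN x (mN y z) := by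
  have m : ∀ x, x % 64 < 64 := fun x => Nat.mod_lt _ (by decide)
  rw [mN_def (mN x y) z, mN_def x (mN y z), mN_div, mN_div, mN_mod, mN_mod, dm_assoc (by omega) (by omega) (by omega),
    ad_assoc (m _) (ac_lt _ _) (ac_lt _ _), ac_ad (by omega) (m _) (ac_lt _ _), ac_dm (by omega) (by omega) (m _)]

def mk' (n : ℕ) : Sh := ⟨Nat.mod n 512, Nat.mod_lt _ (by decide)⟩
/-- entry of a table of elements -/
def tb (T : ℕ) (x : Sh) : Sh := mk' (Nat.shiftRight T (Nat.mul 9 x.n))
instance : DecidableEq Sh := fun x y => decidable_of_iff (Nat.beq x.n y.n = true)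
  ⟨fun h => Sh.ext (Nat.eq_of_beq_eq_true h), fun h => h ▸ Nat.beq_refl _⟩
theorem mk_n (x : Sh) : mk' x.n = x := Sh.ext (Nat.mod_eq_of_lt x.lt)
instance (p : Sh → Prop) [DecidablePred p] : Decidable (∀ x, p x) :=
  decidable_of_iff (allN (fun k => decide (p (mk' k))) 512 = true) (by
    rw [allN_iff]
    exact ⟨fun h x => mk_n x ▸ of_decide_eq_true (h _ x.lt), fun h _ _ => decide_eq_true (h _)⟩)
instance (p : Sh → Prop) [DecidablePred p] : Decidable (∃ x, p x) :=
  decidable_of_iff (¬ ∀ x, ¬ p x) (by simp)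
def all : List Sh := (List.range 512).map mk'
theorem mem_all (x : Sh) : x ∈ all := List.mem_map.2 ⟨x.n, List.mem_range.2 x.lt, mk_n x⟩
instance : Fintype Sh := Fintype.ofList all mem_all

instance : Mul Sh := ⟨fun x y => ⟨mN x.n y.n, mN_lt _ _⟩⟩
instance : One Sh := ⟨⟨0, by decide⟩⟩
instance : Inv Sh := ⟨tb IV⟩
instance : Group Sh := Group.ofLeftAxioms (fun x y z => Sh.ext (mN_assoc x.lt y.lt z.lt))
  (by decide +kernel) (by decide +kernel)
theorem nodup : all.Nodup := List.Nodup.map_on (fun x a y b e => by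
  have := congrArg Sh.n e
  change x % 512 = y % 512 at this
  rwa [Nat.mod_eq_of_lt (List.mem_range.1 a), Nat.mod_eq_of_lt (List.mem_range.1 b)] at this) List.nodup_range
theorem card : Nat.card Sh = 512 := by
  have := List.toFinset_card_of_nodup nodup
  rw [all, List.length_map, List.length_range, ← all] at this
  rw [Nat.card_eq_fintype_card, ← this]
  exact congrArg Finset.card (Finset.ext fun x => by simp [mem_all])

def tst (M n : ℕ) : Bool := Nat.beq (Nat.land (Nat.shiftRight M n) 1) 1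
/-- membership in a set given by a mask -/
def msk (M : ℕ) (x : Sh) : Bool := tst M x.n
/-- a subgroup given by a mask -/
def sub (M : ℕ) (h1 : msk M 1 = true)
    (h2 : allN (fun x => !tst M x || allN (fun y => !tst M y || tst M (mN x y)) 512) 512 = true)
    (h3 : ∀ x, msk M x = true → msk M x⁻¹ = true) : Subgroup Sh :=
  ⟨⟨⟨{x | msk M x = true}, fun {x y} a b => by
    have i := (allN_iff _ _).1 h2 _ x.lt
    rw [show tst M x.n = true from a, Bool.not_true, Bool.false_or, allN_iff] at i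
    have j := i _ y.lt
    rwa [show tst M y.n = true from b, Bool.not_true, Bool.false_or] at j⟩, h1⟩, fun a => h3 _ a⟩
end Sh
open Sh

/-- `0`: the identity; `1, …, 9`: the classes `z, v, v₄, q₈, q, a, t₈, t, b` of involutions (sizes `1, 2, 4, 8, 16, 16, 8,
16, 16`); `10`, `11`: order `4`, `8` -/
def cl (x : Sh) : ℕ := Nat.land (Nat.shiftRight CL (Nat.mul 4 x.n)) 15
def z0 : Sh := mk' 2
def v0 : Sh := mk' 8
def f0 : Sh := mk' 32
def e0 : Sh := mk' 448
def q0 : Sh := mk' 128
def a0 : Sh := mk' 64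
def s0 : Sh := mk' 452
def t0 : Sh := mk' 176
def b0 : Sh := mk' 65
/-- `i² = z` -/
def i0 : Sh := mk' 1
/-- `u = t a t` -/
def u0 : Sh := mk' 399
/-- representatives of the classes of involutions -/
def rep (n : ℕ) : Sh := [1, z0, v0, f0, e0, q0, a0, s0, t0, b0].getD n 1

/-- `{1, z}` -/
def Z0 : Subgroup Sh := sub 0x5 (by decide +kernel) (by decide +kernel) (by decide +kernel)
instance : DecidablePred (· ∈ Z0) := fun x => inferInstanceAs (Decidable (msk 0x5 x = true))
/-- `⟨i⟩ = Z(Q)` -/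
def I0 : Subgroup Sh := sub 0xf (by decide +kernel) (by decide +kernel) (by decide +kernel)
instance : DecidablePred (· ∈ I0) := fun x => inferInstanceAs (Decidable (msk 0xf x = true))
/-- `{1, z, v, v z}` -/
def U0 : Subgroup Sh := sub 0x505 (by decide +kernel) (by decide +kernel) (by decide +kernel)
instance : DecidablePred (· ∈ U0) := fun x => inferInstanceAs (Decidable (msk 0x505 x = true))
/-- the normal `E₈` -/
def V0 : Subgroup Sh := sub 0x50500000505 (by decide +kernel) (by decide +kernel) (by decide +kernel)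
instance : DecidablePred (· ∈ V0) := fun x => inferInstanceAs (Decidable (msk 0x50500000505 x = true))
/-- `C(V) = Z₄³` -/
def W0 : Subgroup Sh := sub 0xffffffffffffffff (by decide +kernel) (by decide +kernel) (by decide +kernel)
instance : DecidablePred (· ∈ W0) := fun x => inferInstanceAs (Decidable (msk 0xffffffffffffffff x = true))
/-- `Q = 4 ∘ 2^{1+4}`, of order `64` -/
def Q0 : Subgroup Sh := sub 0xf0f00000f0f000000000000000000000f0f00000f0f0000000000000000000000000000000000000f0f00000f0f000000000000000000000f0f00000f0f (by decide +kernel) (by decide +kernel) (by decide +kernel)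
instance : DecidablePred (· ∈ Q0) := fun x => inferInstanceAs (Decidable (msk 0xf0f00000f0f000000000000000000000f0f00000f0f0000000000000000000000000000000000000f0f00000f0f000000000000000000000f0f00000f0f x = true))
/-- an `E₁₆` containing `U`, `e`, `a` -/
def E0 : Subgroup Sh := sub 0x5050000000000000505000000000000000000000000000000000000000000000000000000000000000000000000000005050000000000000505 (by decide +kernel) (by decide +kernel) (by decide +kernel)
instance : DecidablePred (· ∈ E0) := fun x => inferInstanceAs (Decidable (msk 0x5050000000000000505000000000000000000000000000000000000000000000000000000000000000000000000000005050000000000000505 x = true))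
/-- `C(i)` -/
def Ra : Subgroup Sh := sub 0xffffffffffffffff0000000000000000ffffffffffffffff00000000000000000000000000000000ffffffffffffffff0000000000000000ffffffffffffffff (by decide +kernel) (by decide +kernel) (by decide +kernel)
instance : DecidablePred (· ∈ Ra) := fun x => inferInstanceAs (Decidable (msk 0xffffffffffffffff0000000000000000ffffffffffffffff00000000000000000000000000000000ffffffffffffffff0000000000000000ffffffffffffffff x = true))
/-- `C(v)` -/
def Rb : Subgroup Sh := sub 0xffffffffffffffffffffffffffffffff0000000000000000000000000000000000000000000000000000000000000000ffffffffffffffffffffffffffffffff (by decide +kernel) (by decide +kernel) (by decide +kernel)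
instance : DecidablePred (· ∈ Rb) := fun x => inferInstanceAs (Decidable (msk 0xffffffffffffffffffffffffffffffff0000000000000000000000000000000000000000000000000000000000000000ffffffffffffffffffffffffffffffff x = true))
/-- `Q ⟨a⟩` -/
def Rc : Subgroup Sh := sub 0xf0f00000f0f00000f0f00000f0f00000f0f00000f0f00000f0f00000f0f00000f0f00000f0f00000f0f00000f0f00000f0f00000f0f00000f0f00000f0f (by decide +kernel) (by decide +kernel) (by decide +kernel)
instance : DecidablePred (· ∈ Rc) := fun x => inferInstanceAs (Decidable (msk 0xf0f00000f0f00000f0f00000f0f00000f0f00000f0f00000f0f00000f0f00000f0f00000f0f00000f0f00000f0f00000f0f00000f0f00000f0f00000f0f x = true))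
/-- a maximal subgroup, all of whose involutions lie in `Φ(S)` -/
def M0 : Subgroup Sh := sub 0xffffffffffffffff00000000000000000000000000000000ffffffffffffffffffffffffffffffff00000000000000000000000000000000ffffffffffffffff (by decide +kernel) (by decide +kernel) (by decide +kernel)
instance : DecidablePred (· ∈ M0) := fun x => inferInstanceAs (Decidable (msk 0xffffffffffffffff00000000000000000000000000000000ffffffffffffffffffffffffffffffff00000000000000000000000000000000ffffffffffffffff x = true))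
instance (t : Sh) : DecidablePred (· ∈ C1[t]) := fun y => decidable_of_iff (y * t = t * y) mem_C1.symm

/-- the `47` involutions conjugate to `z` -/
def zc (x : Sh) : Prop := 1 ≤ cl x ∧ cl x ≤ 6
/-- the `40` involutions conjugate to `t` -/
def xc (x : Sh) : Prop := 7 ≤ cl x ∧ cl x ≤ 9
instance : DecidablePred zc := fun x => inferInstanceAs (Decidable (_ ∧ _))
instance : DecidablePred xc := fun x => inferInstanceAs (Decidable (_ ∧ _))

theorem card_sub (A : Subgroup Sh) [DecidablePred (· ∈ A)] : Nat.card A = (all.filter (· ∈ A)).length := by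
  rw [Nat.card_eq_fintype_card, Fintype.card_subtype, ← List.toFinset_card_of_nodup (List.Nodup.filter _ nodup)]
  exact congrArg Finset.card (Finset.ext fun x => by simp [Sh.mem_all])

theorem card_Z0 : #Z0 = 2 := (card_sub _).trans (by decide +kernel)
theorem card_I0 : #I0 = 4 := (card_sub _).trans (by decide +kernel)
theorem card_U0 : #U0 = 4 := (card_sub _).trans (by decide +kernel)
theorem card_V0 : #V0 = 8 := (card_sub _).trans (by decide +kernel)
theorem card_W0 : #W0 = 64 := (card_sub _).trans (by decide +kernel)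
theorem card_Q0 : #Q0 = 64 := (card_sub _).trans (by decide +kernel)
theorem card_E0 : #E0 = 16 := (card_sub _).trans (by decide +kernel)
theorem card_Rb : #Rb = 256 := (card_sub _).trans (by decide +kernel)

theorem mem_Z0 : ∀ x, x ∈ Z0 ↔ x = 1 ∨ x = z0 := by decide +kernel
theorem mem_U0 : ∀ x, x ∈ U0 ↔ x = 1 ∨ x = z0 ∨ x = v0 ∨ x = v0 * z0 := by decide +kernel
theorem mem_I0 : ∀ x, x ∈ I0 ↔ x = 1 ∨ x = z0 ∨ x = i0 ∨ x = i0⁻¹ := by decide +kernel
theorem z0_cen : ∀ x, x * z0 = z0 * x := by decide +kernel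
theorem cen_gen : ∀ x : Sh, a0 * x = x * a0 → q0 * x = x * q0 → t0 * x = x * t0 → x ∈ Z0 := by decide +kernel
theorem cen_iff (x : Sh) : (∀ y, y * x = x * y) ↔ x ∈ Z0 :=
  ⟨fun h => cen_gen x (h _) (h _) (h _), fun h y => ((mem_Z0 x).1 h).elim (fun e => by simp [e]) fun e => e ▸ z0_cen y⟩
theorem zx : ∀ x : Sh, x * x = 1 → x = 1 ∨ zc x ∨ xc x := by decide +kernel
theorem zc_sq : ∀ x, zc x → x * x = 1 ∧ x ≠ 1 := by decide +kernel
theorem xc_sq : ∀ x, xc x → x * x = 1 ∧ x ≠ 1 := by decide +kernel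
/-- the classes of involutions -/
theorem cl_rep : ∀ x : Sh, cl x ≤ 9 → ∃ s, s * x * s⁻¹ = rep (cl x) := by decide +kernel
theorem cl_sq : ∀ x : Sh, x * x = 1 ↔ cl x ≤ 9 := by decide +kernel
theorem Q_zc : ∀ x ∈ Q0, x * x = 1 → x ≠ 1 → zc x := by decide +kernel
theorem zc_z : ∀ x, zc x → x ≠ z0 → zc (z0 * x) := by decide +kernel
theorem Z_U : Z0 ≤ U0 := fun x => (by decide +kernel : ∀ x ∈ Z0, x ∈ U0) x
theorem Z_I : Z0 ≤ I0 := fun x => (by decide +kernel : ∀ x ∈ Z0, x ∈ I0) x
theorem U_V : U0 ≤ V0 := fun x => (by decide +kernel : ∀ x ∈ U0, x ∈ V0) x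
theorem U_E : U0 ≤ E0 := fun x => (by decide +kernel : ∀ x ∈ U0, x ∈ E0) x
theorem V_W : V0 ≤ W0 := fun x => (by decide +kernel : ∀ x ∈ V0, x ∈ W0) x
theorem V_Q : V0 ≤ Q0 := fun x => (by decide +kernel : ∀ x ∈ V0, x ∈ Q0) x
theorem I_Q : I0 ≤ Q0 := fun x => (by decide +kernel : ∀ x ∈ I0, x ∈ Q0) x
theorem I_W : I0 ≤ W0 := fun x => (by decide +kernel : ∀ x ∈ I0, x ∈ W0) x
theorem W_Ra : W0 ≤ Ra := fun x => (by decide +kernel : ∀ x ∈ W0, x ∈ Ra) x
theorem W_Rb : W0 ≤ Rb := fun x => (by decide +kernel : ∀ x ∈ W0, x ∈ Rb) x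
theorem Q_Ra : Q0 ≤ Ra := fun x => (by decide +kernel : ∀ x ∈ Q0, x ∈ Ra) x
theorem Q_Rc : Q0 ≤ Rc := fun x => (by decide +kernel : ∀ x ∈ Q0, x ∈ Rc) x
theorem E_Rb : E0 ≤ Rb := fun x => (by decide +kernel : ∀ x ∈ E0, x ∈ Rb) x
theorem E_Rc : E0 ≤ Rc := fun x => (by decide +kernel : ∀ x ∈ E0, x ∈ Rc) x
theorem ab_of (A : Subgroup Sh) (h1 : ∀ x ∈ A, ∀ y ∈ A, x * y = y * x) (h2 : ∀ x ∈ A, x * x = 1) : Abelem 2 A :=
  ⟨le_C_iff.2 h1, fun x a => (pow_two x).trans (h2 x a)⟩
theorem ab_E : Abelem 2 E0 := ab_of _ (by decide +kernel) (by decide +kernel)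
theorem ab_V : Abelem 2 V0 := ab_of _ (by decide +kernel) (by decide +kernel)
theorem ab_U : Abelem 2 U0 := ab_V.of_le U_V
theorem ab_Z : Abelem 2 Z0 := ab_U.of_le Z_U
theorem ab_W : Abel W0 := le_C_iff.2 (by decide +kernel)
/-- the word length in `a, q, t` -/
def dp (x : Sh) : ℕ := Nat.land (Nat.shiftRight 0x328c642088518c64210432108418c6518c641906220ca3190851904420c622888320ca42106429042a4e739ca949ca749d2329d27494e749ca739d251a4e93952749ce53a4e51aca939ce94a4e74a5233ace53a4a749ce73a4e52a4e739ce5594e549ce72a4e929d274952349ce52aca72a4e939d254a52332106420ca5208851942319464190842088421042210841908420c642904228c8420ca520c65214242904420c642106429043290642104519044210632908321065194242104328c63290842104521423a5254a4e94a4a759d6139d6549d274a4a74a5232a52749d274a4e54a5232ace74a4e94a4e55a5614a5233a4e73a4e74a5233a5254a52549ce54a5253a5273a52749d2349d233a4e53ad293a4e559d614214442108428c8521423214652146520c65294432908421085210452142329064290a428c662180 (Nat.mul 5 x.n))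 31
theorem gen_top : closure {a0, q0, t0} = ⊤ := by
  have k : ∀ x : Sh, x = 1 ∨ ∃ s ∈ [a0, q0, t0], dp (x * s) < dp x := by decide +kernel
  have : ∀ n x, dp x < n → x ∈ closure {a0, q0, t0} := fun n => by
    induction n with
    | zero => exact fun _ h => absurd h (Nat.not_lt_zero _)
    | succ n ih =>
      intro x h
      rcases k x with rfl | ⟨s, a, b⟩
      · exact one_mem _
      · exact (mul_mem_cancel_right (subset_closure (by simpa using a))).1 (ih _ (by omega))
  exact eq_top_iff.2 fun x _ => this _ x (Nat.lt_succ_self _)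
theorem top_le_of {A : Subgroup Sh} (a : a0 ∈ A) (b : q0 ∈ A) (c : t0 ∈ A) : ⊤ ≤ A :=
  gen_top.ge.trans ((closure_le _).2 (by rintro _ (rfl | rfl | rfl) <;> assumption))
theorem n_of (A : Subgroup Sh) (h : ∀ s ∈ [a0, q0, t0], ∀ x ∈ A, s * x * s⁻¹ ∈ A) : ⊤ ≤ N[A] :=
  top_le_of (mem_N_of (h _ (by simp))) (mem_N_of (h _ (by simp))) (mem_N_of (h _ (by simp)))
theorem n_I : ⊤ ≤ N[I0] := n_of _ (by decide +kernel)
theorem n_U : ⊤ ≤ N[U0] := n_of _ (by decide +kernel)
theorem n_V : ⊤ ≤ N[V0] := n_of _ (by decide +kernel)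
theorem n_W : ⊤ ≤ N[W0] := n_of _ (by decide +kernel)
theorem n_Ra : ⊤ ≤ N[Ra] := n_of _ (by decide +kernel)
theorem n_Rb : ⊤ ≤ N[Rb] := n_of _ (by decide +kernel)
theorem n_Q : ⊤ ≤ N[Q0] := n_of _ (by decide +kernel)
theorem Z0_eq : Z0 = zpowers z0 := (eq_zpowers_of_prime (card_Z0.symm ▸ Nat.prime_two) (by decide +kernel) (by decide +kernel)).symm
theorem C_v : C1[v0] = Rb := Subgroup.ext fun y => (by decide +kernel : ∀ y, y ∈ C1[v0] ↔ y ∈ Rb) y
theorem C_i : C1[i0] = Ra := Subgroup.ext fun y => (by decide +kernel : ∀ y, y ∈ C1[i0] ↔ y ∈ Ra) y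

end Cfsg.Agent.HY
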