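import Cfsg.Agent.HY.Def

/-! # Searching for the maps induced by conjugation -/

set_option autoImplicit false
set_option linter.unusedVariables false
set_option linter.unusedSectionVars false

namespace Cfsg.Agent.HY
open Cfsg Cfsg.Agent.BG Subgroup PHom Sh
open Cfsg.Agent.S3F (p2 SCl)

universe u

variable {G : Type u} [Group G] [Finite G] {ι : Sh →* G} {H K M X Y : Subgroup G} {A B : Subgroup Sh} {x y v : Sh}
  {a b c d g w : G}

/-- the value of a word -/
def evS (xs : List Sh) (w : List ℕ) : Sh := List.rec 1 (fun k _ r => xs.getD k 1 * r) w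
def evN (xs : List ℕ) (w : List ℕ) : ℕ := List.rec 0 (fun k _ r => mN (xs.getD k 0) r) w
theorem evN_eq (xs : List Sh) (w : List ℕ) : evN (xs.map Sh.n) w = (evS xs w).n := by
  induction w with
  | nil => rfl
  | cons k w ih =>
    show mN _ (evN _ w) = mN _ (evS _ w).n
    rw [ih, show (0 : ℕ) = (1 : Sh).n from rfl, List.getD_map]
theorem getD_mem {xs : List Sh} (h : ∀ x ∈ xs, x ∈ A) (k : ℕ) : xs.getD k 1 ∈ A := by
  rw [List.getD_eq_getElem?_getD]
  cases e : xs[k]? with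
  | none => exact one_mem _
  | some y => exact h y (List.mem_of_getElem? e)
theorem evS_mem {xs : List Sh} (h : ∀ x ∈ xs, x ∈ A) (w : List ℕ) : evS xs w ∈ A := by
  induction w with
  | nil => exact one_mem _
  | cons k w ih => exact mul_mem (getD_mem h k) ih
theorem Pull.ev {σ : Sh → Sh} (q : Pull ι g A σ) {xs : List Sh} (h : ∀ x ∈ xs, x ∈ A) (w : List ℕ) :
    evS (xs.map σ) w = σ (evS xs w) := by
  induction w with
  | nil => exact q.one.symm
  | cons k w ih =>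
    show _ * evS _ w = σ (_ * evS _ w)
    rw [ih, q.mul _ (getD_mem h k) _ (evS_mem h w), ← q.one, List.getD_map, q.one]

def clN (n : ℕ) : ℕ := Nat.land (Nat.shiftRight CL (Nat.mul 4 n)) 15
def flt (ok xs ys : List ℕ) (F : List (List ℕ × List ℕ)) : Bool :=
  List.rec true (fun f _ r => Bool.rec false r (Bool.rec (tst (ok.getD (clN (evN xs f.1)) 0) (evN ys f.1))
    (Nat.beq (evN ys f.1) (evN ys f.2)) (Nat.beq (evN xs f.1) (evN xs f.2)))) F
def srch (ok : List ℕ) (P : List ℕ → List ℕ → Bool) (L : List (ℕ × List (List ℕ × List ℕ))) : List ℕ → List ℕ → Bool :=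
  List.rec P (fun l _ r xs ys =>
    allN (fun k => Bool.rec true (r (l.1 :: xs) (k :: ys)) (flt ok (l.1 :: xs) (k :: ys) l.2)) 512) L

/-- the masks `ok` contain the conjugates -/
def Ok (ι : Sh →* G) (ok : List ℕ) : Prop := ∀ x y, Cj ⊤ (ι x) (ι y) → tst (ok.getD (cl x) 0) y.n = true

theorem Pull.flt {σ : Sh → Sh} (q : Pull ι g A σ) {ok : List ℕ} (o : Ok ι ok) {xs : List Sh} (h : ∀ x ∈ xs, x ∈ A)
    (F : List (List ℕ × List ℕ)) : flt ok (xs.map Sh.n) ((xs.map σ).map Sh.n) F = true := by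
  induction F with
  | nil => rfl
  | cons f F ih =>
    show Bool.rec false (HY.flt _ _ _ F) (Bool.rec _ _ _ : Bool) = true
    simp only [evN_eq, q.ev h]
    cases e : Nat.beq (evS xs f.1).n (evS xs f.2).n
    · exact (o _ _ (q.cj (mem_top g) (evS_mem h f.1))).symm ▸ ih
    · rw [Sh.ext (Nat.eq_of_beq_eq_true e), Nat.beq_refl]; exact ih

theorem Pull.srch {σ : Sh → Sh} (q : Pull ι g A σ) {ok : List ℕ} (o : Ok ι ok) {P : List ℕ → List ℕ → Bool}
    (L : List (ℕ × List (List ℕ × List ℕ))) (hL : ∀ l ∈ L, l.1 < 512 ∧ mk' l.1 ∈ A) {xs : List Sh} (h : ∀ x ∈ xs, x ∈ A)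
    (e : srch ok P L (xs.map Sh.n) ((xs.map σ).map Sh.n) = true) :
    P (((L.map fun l => mk' l.1).reverse ++ xs).map Sh.n) ((((L.map fun l => mk' l.1).reverse ++ xs).map σ).map Sh.n) = true := by
  induction L generalizing xs with
  | nil => exact e
  | cons l L ih =>
    obtain ⟨a, b⟩ := hL l (by simp)
    have h' : ∀ x ∈ mk' l.1 :: xs, x ∈ A := List.forall_mem_cons.2 ⟨b, h⟩
    have i := (allN_iff (fun k => Bool.rec (motive := fun _ => Bool) true (HY.srch ok P L (l.1 :: xs.map Sh.n) (k :: (xs.map σ).map Sh.n))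
      (HY.flt ok (l.1 :: xs.map Sh.n) (k :: (xs.map σ).map Sh.n) l.2)) 512).1 e _ (σ (mk' l.1)).lt
    have j := q.flt o h' l.2
    have k : (mk' l.1).n = l.1 := Nat.mod_eq_of_lt a
    simp only [List.map_cons, k] at j
    simp only [j] at i
    have := ih (fun m hm => hL m (List.mem_cons_of_mem _ hm)) h' (by simpa only [List.map_cons, k] using i)
    simpa only [List.map_cons, List.reverse_cons, List.append_assoc, List.singleton_append] using this

/-- `x` is moved to `v` by an element of `K` moving `C(x)` into `S` -/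
def Mp (ι : Sh →* G) (K : Subgroup G) (x v : Sh) : Prop := ∃ g ∈ K, ∃ σ, Pull ι g C1[x] σ ∧ σ x = v

theorem Pull.adj {σ : Sh → Sh} (q : Pull ι g A σ) (s : Sh) : Pull ι (ι s * g) A fun x => s * σ x * s⁻¹ :=
  ⟨fun x a => by rw [map_mul, map_mul, map_inv, q.eq x a]; group, fun x a y b => by rw [q.mul x a y b, conj_mul],
    fun x a y b e => q.inj x a y b (by simpa using e), by simp [q.one]⟩
theorem Mp.adj (m : Mp ι K x v) (l : ι.range ≤ K) (e : ∃ s, s * v * s⁻¹ = y) : Mp ι K x y := by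
  obtain ⟨g, a, σ, q, rfl⟩ := m
  obtain ⟨s, rfl⟩ := e
  exact ⟨_, mul_mem (l (mem_rg s)) a, _, q.adj s, rfl⟩
theorem Mp.cj (m : Mp ι K x v) : Cj K (ι x) (ι v) := by
  obtain ⟨g, a, σ, q, rfl⟩ := m
  exact q.cj a (mem_C1_self x)
theorem Mp.card (m : Mp ι K x v) : #C1[x] ≤ #C1[v] := by
  obtain ⟨g, a, σ, q, rfl⟩ := m
  exact Nat.card_le_card_of_injective (fun y => ⟨σ y, mem_C1.2 (q.cm y.2 (mem_C1_self x) (mem_C1.1 y.2))⟩)
    fun y y' e => Subtype.ext (q.inj _ y.2 _ y'.2 (congrArg Subtype.val e))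

theorem TM.ext (h : TM ι) (l : ι.range ≤ K) (e : Cj K (ι x) (ι y)) : ∃ v, Mp ι K x v ∧ Mp ι K y v := by
  obtain ⟨k, a, e⟩ := e
  have m : ∀ A : Subgroup Sh, A.map ι ≤ K := fun A => (map_le A).trans l
  obtain ⟨R, s, i⟩ := syl_superset p2 (le_inf (m _) (map_C1 y)) (map_pig C1[y])
  obtain ⟨c, b, j⟩ := s.cj_sub p2 (U := BG.cj k (C1[x].map ι))
    (le_inf (cj_le_of_mem (m _) (normG _ a)) (by rw [← e, ← cj_C1]; exact cj_mono _ (map_C1 x))) ((map_pig _).cj _)
  obtain ⟨g, d, n⟩ := h.cj_sub l (s.le.trans inf_le_left) s.pi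
  obtain ⟨σ, q⟩ := h.pull (g := g * (c * k)) (A := C1[x]) (by rw [cj_mul, cj_mul]; exact (cj_mono _ j).trans n)
  obtain ⟨σ', q'⟩ := h.pull ((cj_mono _ i).trans n)
  refine ⟨σ' y, ⟨_, mul_mem d (mul_mem b.1 a), σ, q, h.inj ?_⟩, g, d, σ', q', rfl⟩
  rw [q.eq _ (mem_C1_self x), q'.eq _ (mem_C1_self y), ← e]
  calc _ = g * (c * (k * ι x * k⁻¹) * c⁻¹) * g⁻¹ := by group
    _ = _ := by rw [e, mem_C1.1 b.2, mul_inv_cancel_right]

/-- classes joined by the edges -/
def clo (E : List (ℕ × ℕ)) (m : List ℕ) : List ℕ :=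
  List.rec m (fun e _ r => bif r.elem e.1 then e.2 :: r else bif r.elem e.2 then e.1 :: r else r) E
def con (E : List (ℕ × ℕ)) (i j : ℕ) : Bool := (clo E (clo E (clo E [i]))).elem j
def edges (xs ys : List ℕ) (W : List (List ℕ)) : List (ℕ × ℕ) := W.map fun w => (clN (evN xs w), clN (evN ys w))
/-- the classes `i` and `j` are fused in `K` -/
def Fu (ι : Sh →* G) (K : Subgroup G) (i j : ℕ) : Prop := Cj K (ι (rep i)) (ι (rep j))
theorem clo_s {E : List (ℕ × ℕ)} {i : ℕ} (h : ∀ e ∈ E, Fu ι K e.1 e.2) {m : List ℕ} (hm : ∀ j ∈ m, Fu ι K i j) :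
    ∀ j ∈ clo E m, Fu ι K i j := by
  induction E with
  | nil => exact hm
  | cons e E ih =>
    have r := ih fun f a => h f (List.mem_cons_of_mem _ a)
    have k := h e (by simp)
    show ∀ j ∈ (bif (clo E m).elem e.1 then e.2 :: clo E m else bif (clo E m).elem e.2 then e.1 :: clo E m else clo E m), _
    cases e1 : (clo E m).elem e.1
    · cases e2 : (clo E m).elem e.2
      · exact r
      · exact List.forall_mem_cons.2 ⟨(r _ (List.mem_of_elem_eq_true e2)).trans k.symm, r⟩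
    · exact List.forall_mem_cons.2 ⟨(r _ (List.mem_of_elem_eq_true e1)).trans k, r⟩
theorem con_s {E : List (ℕ × ℕ)} {i j : ℕ} (h : ∀ e ∈ E, Fu ι K e.1 e.2) (e : con E i j = true) : Fu ι K i j :=
  clo_s h (clo_s h (clo_s h (List.forall_mem_singleton.2 (Cj.refl _ _)))) j (List.mem_of_elem_eq_true e)
theorem cj_rep (l : ι.range ≤ K) (a : cl x ≤ 9) : Cj K (ι x) (ι (rep (cl x))) := (cj_s' (cl_rep x a)).mono l
theorem TM.edges (h : TM ι) {σ : Sh → Sh} (q : Pull ι g A σ) (l : ι.range ≤ K) (hg : g ∈ K) {xs : List Sh}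
    (m : ∀ x ∈ xs, x ∈ A) {W : List (List ℕ)} (hW : ∀ w ∈ W, cl (evS xs w) ≤ 9) :
    ∀ e ∈ edges (xs.map Sh.n) ((xs.map σ).map Sh.n) W, Fu ι K e.1 e.2 := fun e he => by
  obtain ⟨w, a, rfl⟩ := List.mem_map.1 he
  simp only [evN_eq, q.ev m]
  exact ((cj_rep l (hW w a)).symm.trans (q.cj hg (evS_mem m w))).trans
    (cj_rep l ((cl_sq _).1 (q.sq1 (evS_mem m w) ((cl_sq _).2 (hW w a)))))

end Cfsg.Agent.HY
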